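import Mathlib

/-!
# S3816 (Flavell's fixed point lemma): definitions and generalities

`x : MulAut H` with `x ^ p = 1`, `p` prime, `p ∤ |H|`.
* `flFix x`   : the fixed points of `x`;
* `flD x h`   : `[h, P] = ⟨h⁻¹ xⁱ(h)⟩`;
* `flC x L`   : `[L, P] = ⟨l⁻¹ xⁱ(l) : l ∈ L⟩`;
* `flK x`     : `⟨[h,P] ∩ Fix : h⟩`;
* `flInv x L` : `L` is `x`-invariant.
See `notes/S3816_proof_helper1.md` (G1)–(G4).
-/

set_option autoImplicit false

namespace Cfsg.Agent.Flav

open Subgroup

variable {H : Type*} [Group H]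

/-- the fixed points of `x` -/
def flFix (x : MulAut H) : Subgroup H :=
  (MonoidHomClass.toMonoidHom x).eqLocus (MonoidHom.id H)

/-- `[h, P]` -/
def flD (x : MulAut H) (h : H) : Subgroup H :=
  closure {c : H | ∃ i : ℕ, c = h⁻¹ * (x ^ i) h}

/-- `[L, P]` -/
def flC (x : MulAut H) (L : Subgroup H) : Subgroup H :=
  closure {c : H | ∃ h ∈ L, ∃ i : ℕ, c = h⁻¹ * (x ^ i) h}

/-- `K = ⟨[h,P] ∩ Fix⟩` -/
def flK (x : MulAut H) : Subgroup H := ⨆ h : H, flD x h ⊓ flFix x

/-- `L` is `x`-invariant -/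
def flInv (x : MulAut H) (L : Subgroup H) : Prop := ∀ l ∈ L, x l ∈ L

theorem mem_flFix {x : MulAut H} {h : H} : h ∈ flFix x ↔ x h = h := Iff.rfl

theorem flFix_pow {x : MulAut H} {h : H} (hh : h ∈ flFix x) (i : ℕ) : (x ^ i) h = h := by
  induction i with
  | zero => simp
  | succ i ih =>
    rw [pow_succ, MulAut.mul_apply, mem_flFix.1 hh, ih]

theorem flInv_pow {x : MulAut H} {L : Subgroup H} (hL : flInv x L) (i : ℕ) :
    ∀ l ∈ L, (x ^ i) l ∈ L := by
  induction i with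
  | zero => intro l hl; simpa using hl
  | succ i ih =>
    intro l hl
    rw [pow_succ', MulAut.mul_apply]
    exact hL _ (ih l hl)

theorem flInv_inf {x : MulAut H} {L M : Subgroup H} (hL : flInv x L) (hM : flInv x M) :
    flInv x (L ⊓ M) := fun l hl => ⟨hL l hl.1, hM l hl.2⟩

theorem flInv_top (x : MulAut H) : flInv x ⊤ := fun _ _ => Subgroup.mem_top _

theorem flInv_bot (x : MulAut H) : flInv x ⊥ := by
  intro l hl
  rw [Subgroup.mem_bot] at hl ⊢
  rw [hl, map_one]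

theorem flInv_flFix (x : MulAut H) : flInv x (flFix x) := by
  intro l hl
  rw [mem_flFix] at hl ⊢
  rw [hl, hl]

/-- the generators of `[h,P]` -/
theorem flD_gen_mem (x : MulAut H) (h : H) (i : ℕ) : h⁻¹ * (x ^ i) h ∈ flD x h :=
  subset_closure ⟨i, rfl⟩

theorem flC_gen_mem (x : MulAut H) {L : Subgroup H} {h : H} (hh : h ∈ L) (i : ℕ) :
    h⁻¹ * (x ^ i) h ∈ flC x L :=
  subset_closure ⟨h, hh, i, rfl⟩

theorem flD_le_flC (x : MulAut H) {L : Subgroup H} {h : H} (hh : h ∈ L) : flD x h ≤ flC x L := by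
  rw [flD, closure_le]
  rintro _ ⟨i, rfl⟩
  exact flC_gen_mem x hh i

theorem flC_mono (x : MulAut H) {L M : Subgroup H} (h : L ≤ M) : flC x L ≤ flC x M := by
  rw [flC, closure_le]
  rintro _ ⟨l, hl, i, rfl⟩
  exact flC_gen_mem x (h hl) i

theorem flC_le {x : MulAut H} {L : Subgroup H} (hL : flInv x L) : flC x L ≤ L := by
  rw [flC, closure_le]
  rintro _ ⟨l, hl, i, rfl⟩
  exact L.mul_mem (L.inv_mem hl) (flInv_pow hL i l hl)

theorem flC_le_iff {x : MulAut H} {L N : Subgroup H} :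
    flC x L ≤ N ↔ ∀ l ∈ L, ∀ i : ℕ, l⁻¹ * (x ^ i) l ∈ N := by
  rw [flC, closure_le]
  constructor
  · intro h l hl i
    exact h ⟨l, hl, i, rfl⟩
  · rintro h _ ⟨l, hl, i, rfl⟩
    exact h l hl i

theorem flD_le_iff {x : MulAut H} {h : H} {N : Subgroup H} :
    flD x h ≤ N ↔ ∀ i : ℕ, h⁻¹ * (x ^ i) h ∈ N := by
  rw [flD, closure_le]
  constructor
  · intro h' i
    exact h' ⟨i, rfl⟩
  · rintro h' _ ⟨i, rfl⟩
    exact h' i

theorem flC_eq_iSup (x : MulAut H) (L : Subgroup H) : flC x L = ⨆ l : L, flD x (l : H) := by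
  apply le_antisymm
  · rw [flC_le_iff]
    intro l hl i
    exact (le_iSup (fun l : L => flD x (l : H)) ⟨l, hl⟩) (flD_gen_mem x l i)
  · exact iSup_le fun l => flD_le_flC x l.2

theorem flC_top_eq (x : MulAut H) :
    closure {c : H | ∃ h : H, ∃ i : ℕ, c = h⁻¹ * (x ^ i) h} = flC x ⊤ := by
  unfold flC
  congr 1
  ext c
  constructor
  · rintro ⟨h, i, rfl⟩
    exact ⟨h, Subgroup.mem_top _, i, rfl⟩
  · rintro ⟨h, _, i, rfl⟩
    exact ⟨h, i, rfl⟩

/-- `[h,P]` is `x`-invariant. -/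
theorem flD_inv (x : MulAut H) (h : H) : flInv x (flD x h) := by
  intro l hl
  induction hl using closure_induction with
  | mem c hc =>
    obtain ⟨i, rfl⟩ := hc
    have h1 : x (h⁻¹ * (x ^ i) h) = (h⁻¹ * (x ^ 1) h)⁻¹ * (h⁻¹ * (x ^ (i + 1)) h) := by
      rw [map_mul, map_inv, pow_one, pow_succ', MulAut.mul_apply]
      group
    rw [h1]
    exact (flD x h).mul_mem ((flD x h).inv_mem (flD_gen_mem x h 1)) (flD_gen_mem x h (i + 1))
  | one => rw [map_one]; exact one_mem _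
  | mul a b _ _ ha hb => rw [map_mul]; exact mul_mem ha hb
  | inv a _ ha => rw [map_inv]; exact inv_mem ha

/-- `[L,P]` is `x`-invariant for invariant `L`. -/
theorem flC_inv {x : MulAut H} {L : Subgroup H} (hL : flInv x L) : flInv x (flC x L) := by
  intro l hl
  induction hl using closure_induction with
  | mem c hc =>
    obtain ⟨g, hg, i, rfl⟩ := hc
    have h1 : x (g⁻¹ * (x ^ i) g) = (x g)⁻¹ * (x ^ i) (x g) := by
      rw [map_mul, map_inv, ← MulAut.mul_apply, ← MulAut.mul_apply, ← pow_succ', pow_succ]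
    rw [h1]
    exact flC_gen_mem x (hL g hg) i
  | one => rw [map_one]; exact one_mem _
  | mul a b _ _ ha hb => rw [map_mul]; exact mul_mem ha hb
  | inv a _ ha => rw [map_inv]; exact inv_mem ha

/-- `[L,P]` is normalised by `L`. -/
theorem flC_conj_mem {x : MulAut H} {L : Subgroup H} {l c : H} (hl : l ∈ L)
    (hc : c ∈ flC x L) : l⁻¹ * c * l ∈ flC x L := by
  induction hc using closure_induction with
  | mem c hc =>
    obtain ⟨g, hg, i, rfl⟩ := hc
    have h1 : l⁻¹ * (g⁻¹ * (x ^ i) g) * l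
        = ((g * l)⁻¹ * (x ^ i) (g * l)) * (l⁻¹ * (x ^ i) l)⁻¹ := by
      rw [map_mul]; group
    rw [h1]
    exact mul_mem (flC_gen_mem x (L.mul_mem hg hl) i) (inv_mem (flC_gen_mem x hl i))
  | one => simp
  | mul a b _ _ ha hb =>
    have : l⁻¹ * (a * b) * l = (l⁻¹ * a * l) * (l⁻¹ * b * l) := by group
    rw [this]; exact mul_mem ha hb
  | inv a _ ha =>
    have : l⁻¹ * a⁻¹ * l = (l⁻¹ * a * l)⁻¹ := by group
    rw [this]; exact inv_mem ha

theorem flC_conj_mem' {x : MulAut H} {L : Subgroup H} {l c : H} (hl : l ∈ L)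
    (hc : c ∈ flC x L) : l * c * l⁻¹ ∈ flC x L := by
  have := flC_conj_mem (x := x) (L.inv_mem hl) hc
  simpa using this

/-- conjugation by a fixed point: `D(c⁻¹ h c) = c⁻¹ D(h) c`. -/
theorem flD_conj_fix {x : MulAut H} {c : H} (hc : c ∈ flFix x) (h d : H) :
    d ∈ flD x h → c⁻¹ * d * c ∈ flD x (c⁻¹ * h * c) := by
  intro hd
  induction hd using closure_induction with
  | mem e he =>
    obtain ⟨i, rfl⟩ := he
    have h1 : c⁻¹ * (h⁻¹ * (x ^ i) h) * c = (c⁻¹ * h * c)⁻¹ * (x ^ i) (c⁻¹ * h * c) := by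
      rw [map_mul, map_mul, map_inv, flFix_pow hc i]; group
    rw [h1]
    exact flD_gen_mem x _ i
  | one => simp
  | mul a b _ _ ha hb =>
    have : c⁻¹ * (a * b) * c = (c⁻¹ * a * c) * (c⁻¹ * b * c) := by group
    rw [this]; exact mul_mem ha hb
  | inv a _ ha =>
    have : c⁻¹ * a⁻¹ * c = (c⁻¹ * a * c)⁻¹ := by group
    rw [this]; exact inv_mem ha

/-- right multiplication by a fixed point: `D(g w) = w⁻¹ D(g) w`. -/
theorem flD_mul_fix {x : MulAut H} {w : H} (hw : w ∈ flFix x) (g d : H) :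
    d ∈ flD x g → w⁻¹ * d * w ∈ flD x (g * w) := by
  intro hd
  induction hd using closure_induction with
  | mem e he =>
    obtain ⟨i, rfl⟩ := he
    have h1 : w⁻¹ * (g⁻¹ * (x ^ i) g) * w = (g * w)⁻¹ * (x ^ i) (g * w) := by
      rw [map_mul, flFix_pow hw i]; group
    rw [h1]
    exact flD_gen_mem x _ i
  | one => simp
  | mul a b _ _ ha hb =>
    have : w⁻¹ * (a * b) * w = (w⁻¹ * a * w) * (w⁻¹ * b * w) := by group
    rw [this]; exact mul_mem ha hb
  | inv a _ ha =>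
    have : w⁻¹ * a⁻¹ * w = (w⁻¹ * a * w)⁻¹ := by group
    rw [this]; exact inv_mem ha

theorem flK_le_flFix (x : MulAut H) : flK x ≤ flFix x :=
  iSup_le fun _ => inf_le_right

theorem flD_inf_le_flK (x : MulAut H) (h : H) : flD x h ⊓ flFix x ≤ flK x :=
  le_iSup (fun h => flD x h ⊓ flFix x) h

theorem flK_le_flC_top (x : MulAut H) : flK x ≤ flC x ⊤ :=
  iSup_le fun h => inf_le_left.trans (flD_le_flC x (Subgroup.mem_top h))

/-! ### coprime action of a group of prime order -/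

section coprime

variable [Finite H] {p : ℕ}

/-- (G2) An `x`-invariant coset `g N` contains a fixed point. -/
theorem fl_exists_fixed_in_coset (hp : p.Prime) {x : MulAut H} (hxp : x ^ p = 1)
    (N : Subgroup H) (hN : flInv x N) (hcop : (Nat.card N).Coprime p) (g : H)
    (hg : g⁻¹ * x g ∈ N) : ∃ n ∈ N, x (g * n) = g * n := by
  classical
  have : Fact p.Prime := ⟨hp⟩
  have : Fintype N := Fintype.ofFinite N
  -- the permutation `n ↦ g⁻¹ x(g n)` of `N`
  have hgi : ∀ i : ℕ, g⁻¹ * (x ^ i) g ∈ N := by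
    intro i
    induction i with
    | zero => simp
    | succ i ih =>
      have h2 : g⁻¹ * (x ^ (i + 1)) g = (g⁻¹ * x g) * x (g⁻¹ * (x ^ i) g) := by
        rw [pow_succ', MulAut.mul_apply, map_mul, map_inv]; group
      rw [h2]
      exact N.mul_mem hg (hN _ ih)
  have hmem : ∀ (i : ℕ) (n : N), g⁻¹ * (x ^ i) (g * n) ∈ N := by
    intro i n
    have h1 : g⁻¹ * (x ^ i) (g * n) = (g⁻¹ * (x ^ i) g) * (x ^ i) n := by
      rw [map_mul]; group
    rw [h1]
    exact N.mul_mem (hgi i) (flInv_pow hN i _ n.2)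
  let f : ℕ → N → N := fun i n => ⟨g⁻¹ * (x ^ i) (g * n), hmem i n⟩
  have hf_add : ∀ i j n, f i (f j n) = f (i + j) n := by
    intro i j n
    apply Subtype.ext
    show g⁻¹ * (x ^ i) (g * (g⁻¹ * (x ^ j) (g * n))) = g⁻¹ * (x ^ (i + j)) (g * n)
    rw [mul_inv_cancel_left, ← MulAut.mul_apply, ← pow_add]
  have hf_p : ∀ n, f p n = n := by
    intro n
    apply Subtype.ext
    show g⁻¹ * (x ^ p) (g * n) = n
    rw [hxp, MulAut.one_apply, inv_mul_cancel_left]
  have hp1 : 1 ≤ p := hp.one_lt.le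
  let σ : Equiv.Perm N :=
    { toFun := f 1
      invFun := f (p - 1)
      left_inv := fun n => by rw [hf_add, Nat.sub_add_cancel hp1, hf_p]
      right_inv := fun n => by rw [hf_add, Nat.add_sub_cancel' hp1, hf_p] }
  have hσpow : ∀ (k : ℕ) (n : N), (σ ^ k) n = f k n := by
    intro k
    induction k with
    | zero =>
      intro n
      apply Subtype.ext
      show (n : H) = g⁻¹ * (x ^ 0) (g * n)
      simp
    | succ k ih =>
      intro n
      rw [pow_succ', Equiv.Perm.mul_apply, ih]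
      show f 1 (f k n) = f (k + 1) n
      rw [hf_add, add_comm]
  have hσ : σ ^ p ^ 1 = 1 := by
    ext n
    rw [pow_one, hσpow, hf_p]
    rfl
  have hnd : ¬ p ∣ Fintype.card N := by
    rw [← Nat.card_eq_fintype_card]
    intro hd
    have := Nat.Coprime.eq_one_of_dvd hcop.symm hd
    exact hp.one_lt.ne' this
  obtain ⟨n, hn⟩ := Equiv.Perm.exists_fixed_point_of_prime hnd hσ
  refine ⟨n, n.2, ?_⟩
  have h3 : ((σ n : N) : H) = g⁻¹ * (x ^ 1) (g * n) := rfl
  rw [hn, pow_one] at h3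
  calc x (g * n) = g * (g⁻¹ * x (g * n)) := by group
    _ = g * n := by rw [← h3]

theorem fl_card_coprime (L : Subgroup H) (hcop : (Nat.card H).Coprime p) :
    (Nat.card L).Coprime p :=
  Nat.Coprime.coprime_dvd_left (Subgroup.card_subgroup_dvd_card L) hcop

/-- (G3) `L = (L ∩ Fix)·[L,P]`. -/
theorem fl_fix_mul_flC (hp : p.Prime) {x : MulAut H} (hxp : x ^ p = 1)
    (hcop : (Nat.card H).Coprime p) {L : Subgroup H} (hL : flInv x L) {l : H} (hl : l ∈ L) :
    ∃ c ∈ L ⊓ flFix x, ∃ k ∈ flC x L, l = c * k := by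
  have hg : l⁻¹ * x l ∈ flC x L := by
    have := flC_gen_mem x hl 1
    rwa [pow_one] at this
  obtain ⟨n, hn, hfix⟩ := fl_exists_fixed_in_coset hp hxp (flC x L) (flC_inv hL)
    (fl_card_coprime _ hcop) l hg
  refine ⟨l * n, ⟨L.mul_mem hl (flC_le hL hn), hfix⟩, n⁻¹, inv_mem hn, by group⟩

/-- (G3) `[[L,P],P] = [L,P]`. -/
theorem flC_flC (hp : p.Prime) {x : MulAut H} (hxp : x ^ p = 1)
    (hcop : (Nat.card H).Coprime p) {L : Subgroup H} (hL : flInv x L) :
    flC x (flC x L) = flC x L := by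
  apply le_antisymm (flC_le (flC_inv hL))
  rw [flC_le_iff]
  intro l hl i
  obtain ⟨c, hc, k, hk, rfl⟩ := fl_fix_mul_flC hp hxp hcop hL hl
  have h1 : (c * k)⁻¹ * (x ^ i) (c * k) = k⁻¹ * (x ^ i) k := by
    rw [map_mul, flFix_pow hc.2 i]; group
  rw [h1]
  exact flC_gen_mem x hk i

/-- (G4) `[[h,P],P] = [h,P]`. -/
theorem flC_flD (_hp : p.Prime) {x : MulAut H} (hxp : x ^ p = 1)
    (hcop : (Nat.card H).Coprime p) (h : H) : flC x (flD x h) = flD x h := by
  apply le_antisymm (flC_le (flD_inv x h))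
  set N := flC x (flD x h) with hN
  set c : ℕ → H := fun i => h⁻¹ * (x ^ i) h with hc
  have hcD : ∀ i, c i ∈ flD x h := fun i => flD_gen_mem x h i
  -- `c (i+1) = c 1 * x (c i)`
  have hrec : ∀ i, c (i + 1) = c 1 * (c i * ((c i)⁻¹ * (x ^ 1) (c i))) := by
    intro i
    simp only [hc]
    rw [pow_one, map_mul, map_inv, pow_succ', MulAut.mul_apply]
    group
  have hstep : ∀ i, (c 1 ^ i)⁻¹ * c i ∈ N := by
    intro i
    induction i with
    | zero => simp [hc]
    | succ i ih =>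
      have h1 : (c 1 ^ (i + 1))⁻¹ * c (i + 1)
          = ((c 1 ^ i)⁻¹ * c i) * ((c i)⁻¹ * (x ^ 1) (c i)) := by
        rw [hrec i, pow_succ]; group
      rw [h1]
      exact N.mul_mem ih (flC_gen_mem x (hcD i) 1)
  have hcp : c p = 1 := by
    simp only [hc]
    rw [hxp, MulAut.one_apply, inv_mul_cancel]
  have h1p : c 1 ^ p ∈ N := by
    have := hstep p
    rw [hcp, mul_one] at this
    have h2 := N.inv_mem this
    rwa [inv_inv] at h2
  -- `c 1 ∈ N` by Bezout
  have hc1 : c 1 ∈ N := by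
    have hord : (orderOf (c 1)).Coprime p :=
      Nat.Coprime.coprime_dvd_left (orderOf_dvd_natCard (c 1)) hcop
    have hz : (c 1) ^ ((orderOf (c 1) : ℤ) * Int.gcdA (orderOf (c 1)) p
        + (p : ℤ) * Int.gcdB (orderOf (c 1)) p) = c 1 := by
      rw [← Int.gcd_eq_gcd_ab]
      have : Int.gcd (orderOf (c 1) : ℤ) (p : ℤ) = 1 := by
        rw [Int.gcd_natCast_natCast]; exact hord
      rw [this]; simp
    rw [zpow_add, zpow_mul, zpow_mul, zpow_natCast, zpow_natCast, pow_orderOf_eq_one, one_zpow,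
      one_mul] at hz
    rw [← hz]
    exact N.zpow_mem h1p _
  rw [flD_le_iff]
  intro i
  have h2 := hstep i
  have h3 : c i = c 1 ^ i * ((c 1 ^ i)⁻¹ * c i) := by group
  show c i ∈ N
  rw [h3]
  exact N.mul_mem (N.pow_mem hc1 i) h2

end coprime

end Cfsg.Agent.Flav
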