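import Cfsg.Agent.Flav.CentralC

/-!
# S3816, the CENTRAL case, part D (step C4: the case `V₁ ≠ H`)
-/

set_option autoImplicit false

namespace Cfsg.Agent.Flav

open Subgroup

variable {H : Type*} [Group H] {p : ℕ} {x : MulAut H}

/-- `[V₁,P] ∩ V = 1` -/
theorem fl_c_B_inf_V (c : FlCtx H p x)
    (hall : ∀ V : Subgroup H, flMin x V → V ≤ center H) {V : Subgroup H} (hV : flMin x V)
    {V₁ : Subgroup H} (d : FlV1 x V V₁) (hne : V₁ ≠ ⊤) : flC x V₁ ⊓ V = ⊥ := by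
  rw [eq_bot_iff]
  rintro w ⟨hwB, hwV⟩
  rw [mem_bot]
  have hVc := hall V hV
  have hwK : w ∈ flK x := c.f4 V₁ d.inv hne ⟨hwB, fl_c_le_fix c hV hVc hwV⟩
  exact fl_c_eq_one_of_mem c hV hVc hwV hwK

/-- `V₁ = V [V₁,P]` -/
theorem fl_c_V1_decomp (c : FlCtx H p x)
    (hall : ∀ V : Subgroup H, flMin x V → V ≤ center H) {V : Subgroup H} (hV : flMin x V)
    {V₁ : Subgroup H} (d : FlV1 x V V₁) :
    ∀ u ∈ V₁, ∃ v ∈ V, ∃ b ∈ flC x V₁, u = v * b := by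
  have := c.fin
  intro u hu
  obtain ⟨c₁, hc₁, k, hk, rfl⟩ := fl_fix_mul_flC c.pp c.xp c.cop d.inv hu
  refine ⟨c₁, ?_, k, hk, rfl⟩
  apply fl_c_star c hall hV d c₁ hc₁.1
  rw [mem_flFix.1 hc₁.2, inv_mul_cancel]; exact one_mem _

/-- `[V₁,P]` is abelian -/
theorem fl_c_B_comm (c : FlCtx H p x)
    (hall : ∀ V : Subgroup H, flMin x V → V ≤ center H) {V : Subgroup H} (hV : flMin x V)
    {V₁ : Subgroup H} (d : FlV1 x V V₁) (hne : V₁ ≠ ⊤) :
    ∀ a ∈ flC x V₁, ∀ b ∈ flC x V₁, a * b = b * a := by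
  intro a ha b hb
  have h0 : a * b * a⁻¹ * b⁻¹ ∈ flC x V₁ :=
    (flC x V₁).mul_mem ((flC x V₁).mul_mem ((flC x V₁).mul_mem ha hb) ((flC x V₁).inv_mem ha))
      ((flC x V₁).inv_mem hb)
  have h1 : a * b * a⁻¹ * b⁻¹ ∈ flC x V₁ ⊓ V := ⟨h0, d.comm a (flC_le d.inv ha) b⟩
  rw [fl_c_B_inf_V c hall hV d hne, mem_bot] at h1
  calc a * b = (a * b * a⁻¹ * b⁻¹) * (b * a) := by group
    _ = b * a := by rw [h1, one_mul]

/-- `V₁` is abelian -/
theorem fl_c_V1_comm (c : FlCtx H p x)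
    (hall : ∀ V : Subgroup H, flMin x V → V ≤ center H) {V : Subgroup H} (hV : flMin x V)
    {V₁ : Subgroup H} (d : FlV1 x V V₁) (hne : V₁ ≠ ⊤) :
    ∀ u ∈ V₁, ∀ u' ∈ V₁, u * u' = u' * u := by
  intro u hu u' hu'
  have hVc := hall V hV
  obtain ⟨v, hv, b, hb, rfl⟩ := fl_c_V1_decomp c hall hV d u hu
  obtain ⟨v', hv', b', hb', rfl⟩ := fl_c_V1_decomp c hall hV d u' hu'
  have hbb := fl_c_B_comm c hall hV d hne b hb b' hb'
  have h1 := mem_center_iff.1 (hVc hv)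
  have h2 := mem_center_iff.1 (hVc hv')
  calc (v * b) * (v' * b') = v * (b * v') * b' := by group
    _ = v * (v' * b) * b' := by rw [h2 b]
    _ = (v * v') * (b * b') := by group
    _ = (v' * v) * (b' * b) := by rw [h2 v, hbb]
    _ = v' * (v * b') * b := by group
    _ = v' * (b' * v) * b := by rw [← h1 b']
    _ = (v' * b') * (v * b) := by group

/-- `D(g)` centralizes `V₁` unless `V₁ D(g) = H` -/
theorem fl_c_D_le_centralizer (c : FlCtx H p x)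
    (hall : ∀ V : Subgroup H, flMin x V → V ≤ center H) {V : Subgroup H} (hV : flMin x V)
    {V₁ : Subgroup H} (d : FlV1 x V V₁) (g : H) (hL : V₁ ⊔ flD x g ≠ ⊤) :
    flD x g ≤ centralizer (V₁ : Set H) := by
  have := c.fin
  have hVc := hall V hV
  intro m hm
  rw [mem_centralizer_iff]
  intro u hu
  obtain ⟨v, hv, b, hb, rfl⟩ := fl_c_V1_decomp c hall hV d u hu
  have hLx : flInv x (V₁ ⊔ flD x g) := fl_c_inv_sup d.inv (flD_inv x g)
  have h4 := c.f4 (V₁ ⊔ flD x g) hLx hL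
  have hbL : b ∈ flC x (V₁ ⊔ flD x g) := flC_mono x le_sup_left hb
  have hmL : m ∈ flC x (V₁ ⊔ flD x g) := by
    have : m ∈ flC x (flD x g) := by rw [flC_flD c.pp c.xp c.cop g]; exact hm
    exact flC_mono x le_sup_right this
  have hbV1 : b ∈ V₁ := flC_le d.inv hb
  have h0 : b * m * b⁻¹ * m⁻¹ ∈ flC x (V₁ ⊔ flD x g) :=
    Subgroup.mul_mem _ (Subgroup.mul_mem _ (Subgroup.mul_mem _ hbL hmL) (Subgroup.inv_mem _ hbL))
      (Subgroup.inv_mem _ hmL)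
  have hw : b * m * b⁻¹ * m⁻¹ ∈ flK x :=
    h4 ⟨h0, fl_c_le_fix c hV hVc (d.comm b hbV1 m)⟩
  have h1 := fl_c_eq_one_of_mem c hV hVc (d.comm b hbV1 m) hw
  have hbm : b * m = m * b :=
    calc b * m = (b * m * b⁻¹ * m⁻¹) * (m * b) := by group
      _ = m * b := by rw [h1, one_mul]
  have hvm := mem_center_iff.1 (hVc hv) m
  calc (v * b) * m = v * (b * m) := by group
    _ = v * (m * b) := by rw [hbm]
    _ = (v * m) * b := by group
    _ = (m * v) * b := by rw [hvm]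
    _ = m * (v * b) := by group

/-- some `M = D(g)` has `V₁ M = H` -/
theorem fl_c_exists_M (c : FlCtx H p x)
    (hall : ∀ V : Subgroup H, flMin x V → V ≤ center H) {V : Subgroup H} (hV : flMin x V)
    {V₁ : Subgroup H} (d : FlV1 x V V₁) : ∃ g : H, V₁ ⊔ flD x g = ⊤ := by
  by_contra hcon
  push Not at hcon
  have h1 : flC x ⊤ ≤ centralizer (V₁ : Set H) := by
    rw [flC_eq_iSup]
    apply iSup_le
    intro l
    exact fl_c_D_le_centralizer c hall hV d (l : H) (hcon l)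
  rw [c.f2] at h1
  have h2 : V₁ ≤ V := by
    intro u hu
    rw [← fl_c_center_eq c hall hV, mem_center_iff]
    intro g
    exact (mem_centralizer_iff.1 (h1 (mem_top g)) u hu).symm
  exact absurd (lt_of_lt_of_le d.lt h2) (lt_irrefl _)

/-- subgroups of `M` normalized by `M`, centralized by `V₁`, invariant: trivial -/
theorem fl_c_sub_M_bot (c : FlCtx H p x)
    (hall : ∀ V : Subgroup H, flMin x V → V ≤ center H) {V : Subgroup H} (hV : flMin x V)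
    {V₁ : Subgroup H} (d : FlV1 x V V₁) {g : H} (hM : V₁ ⊔ flD x g = ⊤) {N : Subgroup H}
    (hNM : N ≤ flD x g) (hnorm : ∀ m ∈ flD x g, ∀ n ∈ N, m * n * m⁻¹ ∈ N)
    (hcent : ∀ u ∈ V₁, ∀ n ∈ N, u * n = n * u) (hNx : flInv x N) : N = ⊥ := by
  by_contra hN1
  have hVc := hall V hV
  have hNn : N.Normal := by
    constructor
    intro n hn h
    have hh : h ∈ V₁ ⊔ flD x g := by rw [hM]; exact mem_top h
    have := d.n
    rw [mem_sup_of_normal_left] at hh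
    obtain ⟨u, hu, m, hm, rfl⟩ := hh
    have h1 := hnorm m hm n hn
    have h2 := hcent u hu _ h1
    have : u * m * n * (u * m)⁻¹ = m * n * m⁻¹ := by
      calc u * m * n * (u * m)⁻¹ = (u * (m * n * m⁻¹)) * u⁻¹ := by group
        _ = ((m * n * m⁻¹) * u) * u⁻¹ := by rw [h2]
        _ = m * n * m⁻¹ := by group
    rw [this]; exact h1
  have hVN : V ≤ N := fl_c_le_of_normal c hall hV hNn hNx hN1
  apply hV.2.2.1
  rw [eq_bot_iff]
  intro v hv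
  rw [mem_bot]
  have hvK : v ∈ flK x := flD_inf_le_flK x g ⟨hNM (hVN hv), fl_c_le_fix c hV hVc hv⟩
  exact fl_c_eq_one_of_mem c hV hVc hv hvK

/-- `M ∩ V₁ = 1` -/
theorem fl_c_M_inf_V1 (c : FlCtx H p x)
    (hall : ∀ V : Subgroup H, flMin x V → V ≤ center H) {V : Subgroup H} (hV : flMin x V)
    {V₁ : Subgroup H} (d : FlV1 x V V₁) (hne : V₁ ≠ ⊤) {g : H} (hM : V₁ ⊔ flD x g = ⊤) :
    flD x g ⊓ V₁ = ⊥ := by
  apply fl_c_sub_M_bot c hall hV d hM inf_le_left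
  · rintro m hm n ⟨hn, hn'⟩
    exact ⟨(flD x g).mul_mem ((flD x g).mul_mem hm hn) ((flD x g).inv_mem hm),
      d.n.conj_mem n hn' m⟩
  · rintro u hu n ⟨_, hn'⟩
    exact fl_c_V1_comm c hall hV d hne u hu n hn'
  · exact flInv_inf (flD_inv x g) d.inv

/-- `C_M(V₁) = 1` -/
theorem fl_c_M_inf_cent (c : FlCtx H p x)
    (hall : ∀ V : Subgroup H, flMin x V → V ≤ center H) {V : Subgroup H} (hV : flMin x V)
    {V₁ : Subgroup H} (d : FlV1 x V V₁) {g : H} (hM : V₁ ⊔ flD x g = ⊤) :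
    flD x g ⊓ centralizer (V₁ : Set H) = ⊥ := by
  apply fl_c_sub_M_bot c hall hV d hM inf_le_left
  · intro m hm n hn0
    rw [mem_inf] at hn0 ⊢
    obtain ⟨hn, hn'⟩ := hn0
    refine ⟨(flD x g).mul_mem ((flD x g).mul_mem hm hn) ((flD x g).inv_mem hm), ?_⟩
    rw [mem_centralizer_iff] at hn' ⊢
    intro u hu
    have h1 : m⁻¹ * u * m⁻¹⁻¹ ∈ V₁ := d.n.conj_mem u hu m⁻¹
    have h2 := hn' _ h1
    calc u * (m * n * m⁻¹) = m * ((m⁻¹ * u * m⁻¹⁻¹) * n) * m⁻¹ := by group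
      _ = m * (n * (m⁻¹ * u * m⁻¹⁻¹)) * m⁻¹ := by rw [h2]
      _ = (m * n * m⁻¹) * u := by group
  · rintro u hu n ⟨_, hn'⟩
    exact mem_centralizer_iff.1 hn' u hu
  · exact flInv_inf (flD_inv x g) (fl_cb_centralizer_inv c.pp c.xp d.inv)

/-- `M` is abelian -/
theorem fl_c_M_comm (c : FlCtx H p x)
    (hall : ∀ V : Subgroup H, flMin x V → V ≤ center H) {V : Subgroup H} (hV : flMin x V)
    {V₁ : Subgroup H} (d : FlV1 x V V₁) {g : H} (hM : V₁ ⊔ flD x g = ⊤) :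
    ∀ a ∈ flD x g, ∀ b ∈ flD x g, a * b = b * a := by
  intro a ha b hb
  have hVc := hall V hV
  have h0 : a * b * a⁻¹ * b⁻¹ ∈ flD x g :=
    (flD x g).mul_mem ((flD x g).mul_mem ((flD x g).mul_mem ha hb) ((flD x g).inv_mem ha))
      ((flD x g).inv_mem hb)
  have h1 : a * b * a⁻¹ * b⁻¹ ∈ flD x g ⊓ centralizer (V₁ : Set H) := by
    rw [mem_inf]
    refine ⟨h0, ?_⟩
    rw [mem_centralizer_iff]
    intro u hu
    exact (fl_cb_comm_comm hVc (d.comm u hu) a b).symm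
  rw [fl_c_M_inf_cent c hall hV d hM, mem_bot] at h1
  calc a * b = (a * b * a⁻¹ * b⁻¹) * (b * a) := by group
    _ = b * a := by rw [h1, one_mul]

/-- `M ∩ Fix = 1` -/
theorem fl_c_M_inf_fix (c : FlCtx H p x)
    (hall : ∀ V : Subgroup H, flMin x V → V ≤ center H) {V : Subgroup H} (hV : flMin x V)
    {V₁ : Subgroup H} (d : FlV1 x V V₁) {g : H} (hM : V₁ ⊔ flD x g = ⊤) :
    flD x g ⊓ flFix x = ⊥ := by
  have := c.fin
  exact fl_c_abelian_fix (flD_inv x g) (fl_c_M_comm c hall hV d hM) (flC_flD c.pp c.xp c.cop g)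

/-- `M ≤ Z₂` -/
theorem fl_c_M_le_Z (c : FlCtx H p x)
    (hall : ∀ V : Subgroup H, flMin x V → V ≤ center H) {V : Subgroup H} (hV : flMin x V)
    {V₁ : Subgroup H} (d : FlV1 x V V₁) {g : H} (hM : V₁ ⊔ flD x g = ⊤) :
    ∀ m ∈ flD x g, ∀ h : H, m * h * m⁻¹ * h⁻¹ ∈ V := by
  intro m hm h
  have hh : h ∈ V₁ ⊔ flD x g := by rw [hM]; exact mem_top h
  have := d.n
  rw [mem_sup_of_normal_left] at hh
  obtain ⟨u, hu, m', hm', rfl⟩ := hh
  have h1 := fl_c_M_comm c hall hV d hM m' hm' m⁻¹ ((flD x g).inv_mem hm)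
  have h2 : m * (u * m') * m⁻¹ * (u * m')⁻¹ = (u * m * u⁻¹ * m⁻¹)⁻¹ := by
    calc m * (u * m') * m⁻¹ * (u * m')⁻¹ = m * u * (m' * m⁻¹) * m'⁻¹ * u⁻¹ := by group
      _ = m * u * (m⁻¹ * m') * m'⁻¹ * u⁻¹ := by rw [h1]
      _ = (u * m * u⁻¹ * m⁻¹)⁻¹ := by group
  rw [h2]; exact V.inv_mem (d.comm u hu m)

/-- `H` has class 2 over `V` -/
theorem fl_c_class2 (c : FlCtx H p x)
    (hall : ∀ V : Subgroup H, flMin x V → V ≤ center H) {V : Subgroup H} (hV : flMin x V)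
    {V₁ : Subgroup H} (d : FlV1 x V V₁) {g : H} (hM : V₁ ⊔ flD x g = ⊤) :
    ∀ a b : H, a * b * a⁻¹ * b⁻¹ ∈ V := by
  intro a b
  have ha : a ∈ V₁ ⊔ flD x g := by rw [hM]; exact mem_top a
  have := d.n
  rw [mem_sup_of_normal_left] at ha
  obtain ⟨u, hu, m, hm, rfl⟩ := ha
  have h1 := hV.1.conj_mem _ (fl_c_M_le_Z c hall hV d hM m hm b) u
  have h2 := d.comm u hu b
  have : u * m * b * (u * m)⁻¹ * b⁻¹ =
      (u * (m * b * m⁻¹ * b⁻¹) * u⁻¹) * (u * b * u⁻¹ * b⁻¹) := by group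
  rw [this]; exact V.mul_mem h1 h2

/-- `C_{H/V}(x) = 1` -/
theorem fl_c_free (c : FlCtx H p x)
    (hall : ∀ V : Subgroup H, flMin x V → V ≤ center H) {V : Subgroup H} (hV : flMin x V)
    {V₁ : Subgroup H} (d : FlV1 x V V₁) (hne : V₁ ≠ ⊤) {g : H} (hM : V₁ ⊔ flD x g = ⊤) :
    ∀ h : H, h⁻¹ * x h ∈ V → h ∈ V := by
  intro h hh
  have hVc := hall V hV
  have hmem : h ∈ V₁ ⊔ flD x g := by rw [hM]; exact mem_top h
  have := d.n
  rw [mem_sup_of_normal_left] at hmem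
  obtain ⟨u, hu, m, hm, rfl⟩ := hmem
  obtain ⟨v, hv⟩ : ∃ v, v = (u * m)⁻¹ * x (u * m) := ⟨_, rfl⟩
  rw [← hv] at hh
  have e1 : m * v * (x m)⁻¹ = u⁻¹ * x u := by rw [hv, map_mul]; group
  rw [mem_center_iff.1 (hVc hh) m] at e1
  have h1 : m * (x m)⁻¹ = v⁻¹ * (u⁻¹ * x u) := by rw [← e1]; group
  have h2 : m * (x m)⁻¹ ∈ flD x g ⊓ V₁ := by
    refine ⟨(flD x g).mul_mem hm ((flD x g).inv_mem (flD_inv x g m hm)), ?_⟩
    rw [h1]
    exact V₁.mul_mem (V₁.inv_mem (d.lt.le hh)) (V₁.mul_mem (V₁.inv_mem hu) (d.inv u hu))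
  rw [fl_c_M_inf_V1 c hall hV d hne hM, mem_bot] at h2
  have hmf : m ∈ flD x g ⊓ flFix x :=
    mem_inf.2 ⟨hm, by rw [mem_flFix]; exact (mul_inv_eq_one.1 h2).symm⟩
  rw [fl_c_M_inf_fix c hall hV d hM, mem_bot] at hmf
  rw [hmf, mul_one] at hv ⊢
  rw [hv] at hh
  exact fl_c_star c hall hV d u hu hh

/-- (C4), case `V₁ ≠ H` -/
theorem fl_c_case_ne_top (c : FlCtx H p x)
    (hall : ∀ V : Subgroup H, flMin x V → V ≤ center H) {V : Subgroup H} (hV : flMin x V)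
    {V₁ : Subgroup H} (d : FlV1 x V V₁) (hne : V₁ ≠ ⊤) : False := by
  obtain ⟨g, hM⟩ := fl_c_exists_M c hall hV d
  exact fl_c_finish c hall hV (fl_c_class2 c hall hV d hM) (fl_c_free c hall hV d hne hM)

end Cfsg.Agent.Flav
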