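import Cfsg.Agent.Flav.Basic

/-!
# S3816, step (POL): the polarization lemma

`H` of class `≤ 2`, `x` trivial on commutators, without fixed points on `H / Z(H)`, `H` non-abelian,
`x ^ p = 1` with `p` odd: some `[h,P]` is non-abelian.
-/

set_option autoImplicit false

namespace Cfsg.Agent.Flav

open Subgroup

variable {H : Type*} [Group H]

/-- the commutator `a b a⁻¹ b⁻¹` -/
def fl_pc (a b : H) : H := a * b * a⁻¹ * b⁻¹

theorem fl_pc_central_comm {z : H} (hz : z ∈ center H) (g : H) : g * z = z * g :=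
  (mem_center_iff.1 hz g)

theorem fl_pc_mul_left (hcl : ∀ a b : H, a * b * a⁻¹ * b⁻¹ ∈ center H) (a a' b : H) :
    fl_pc (a * a') b = fl_pc a b * fl_pc a' b := by
  unfold fl_pc
  have h1 := fl_pc_central_comm (hcl a' b) a
  -- a * (a' b a'⁻¹ b⁻¹) = (a' b a'⁻¹ b⁻¹) * a
  calc a * a' * b * (a * a')⁻¹ * b⁻¹
      = (a * (a' * b * a'⁻¹ * b⁻¹)) * b * a⁻¹ * b⁻¹ := by group
    _ = ((a' * b * a'⁻¹ * b⁻¹) * a) * b * a⁻¹ * b⁻¹ := by rw [h1]
    _ = (a' * b * a'⁻¹ * b⁻¹) * (a * b * a⁻¹ * b⁻¹) := by group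
    _ = (a * b * a⁻¹ * b⁻¹) * (a' * b * a'⁻¹ * b⁻¹) :=
        (fl_pc_central_comm (hcl a' b) _).symm ▸ rfl
  
theorem fl_pc_mul_right (hcl : ∀ a b : H, a * b * a⁻¹ * b⁻¹ ∈ center H) (a b b' : H) :
    fl_pc a (b * b') = fl_pc a b * fl_pc a b' := by
  unfold fl_pc
  have h1 := fl_pc_central_comm (hcl a b') b
  calc a * (b * b') * a⁻¹ * (b * b')⁻¹
      = (a * b * a⁻¹ * b⁻¹) * (b * (a * b' * a⁻¹ * b'⁻¹)) * b⁻¹ := by group
    _ = (a * b * a⁻¹ * b⁻¹) * ((a * b' * a⁻¹ * b'⁻¹) * b) * b⁻¹ := by rw [h1]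
    _ = (a * b * a⁻¹ * b⁻¹) * (a * b' * a⁻¹ * b'⁻¹) := by group

theorem fl_pc_self (a : H) : fl_pc a a = 1 := by
  unfold fl_pc; group

theorem fl_pc_swap (a b : H) : fl_pc b a = (fl_pc a b)⁻¹ := by
  unfold fl_pc; group

theorem fl_pc_eq_one_iff (a b : H) : fl_pc a b = 1 ↔ a * b = b * a := by
  unfold fl_pc
  constructor
  · intro h
    calc a * b = (a * b * a⁻¹ * b⁻¹) * (b * a) := by group
      _ = b * a := by rw [h, one_mul]
  · intro h
    calc a * b * a⁻¹ * b⁻¹ = (b * a) * a⁻¹ * b⁻¹ := by rw [h]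
      _ = 1 := by group

theorem fl_pc_map (x : MulAut H) (a b : H) : x (fl_pc a b) = fl_pc (x a) (x b) := by
  unfold fl_pc
  rw [map_mul, map_mul, map_mul, map_inv, map_inv]

/-- the centre is invariant under automorphisms -/
theorem fl_p_center_inv (x : MulAut H) {z : H} (hz : z ∈ center H) : x z ∈ center H := by
  rw [mem_center_iff]
  intro g
  have h1 : g = x (x⁻¹ g) := (MulAut.apply_inv_self H x g).symm
  rw [h1, ← map_mul, ← map_mul, mem_center_iff.1 hz]

theorem fl_pc_inv_right (hcl : ∀ a b : H, a * b * a⁻¹ * b⁻¹ ∈ center H) (a b : H) :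
    fl_pc a b⁻¹ = (fl_pc a b)⁻¹ := by
  have h := fl_pc_mul_right hcl a b b⁻¹
  rw [mul_inv_cancel] at h
  have h1 : fl_pc a (1 : H) = 1 := by unfold fl_pc; group
  rw [h1] at h
  exact eq_inv_of_mul_eq_one_right h.symm

/-- (POL) -/
theorem fl_polar [Finite H] {p : ℕ} (hp : p.Prime) (hodd : p ≠ 2) (x : MulAut H) (hxp : x ^ p = 1)
    (hcl : ∀ a b : H, a * b * a⁻¹ * b⁻¹ ∈ Subgroup.center H)
    (hfixc : ∀ a b : H, x (a * b * a⁻¹ * b⁻¹) = a * b * a⁻¹ * b⁻¹)
    (hfree : ∀ h : H, h⁻¹ * x h ∈ Subgroup.center H → h ∈ Subgroup.center H)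
    (hnab : ∃ a b : H, a * b ≠ b * a) :
    ∃ h : H, (h⁻¹ * x h) * (h⁻¹ * (x ^ 2) h) ≠ (h⁻¹ * (x ^ 2) h) * (h⁻¹ * x h) := by
  classical
  by_contra hcon
  push Not at hcon
  set Z := center H with hZ
  have hZn : Z.Normal := by rw [hZ]; infer_instance
  -- Step A: φ(h) commutes with x (φ h)
  have hA : ∀ h : H, (h⁻¹ * x h) * x (h⁻¹ * x h) = x (h⁻¹ * x h) * (h⁻¹ * x h) := by
    intro h
    have h1 : h⁻¹ * (x ^ 2) h = (h⁻¹ * x h) * x (h⁻¹ * x h) := by
      rw [pow_two, MulAut.mul_apply, map_mul, map_inv]; group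
    have h2 := hcon h
    rw [h1] at h2
    -- φ * (φ * xφ) = (φ * xφ) * φ
    have h3 : (h⁻¹ * x h) * ((h⁻¹ * x h) * x (h⁻¹ * x h))
        = (h⁻¹ * x h) * (x (h⁻¹ * x h) * (h⁻¹ * x h)) := by
      rw [h2]; group
    exact mul_left_cancel h3
  -- the quotient is commutative
  have hQcomm : ∀ q₁ q₂ : H ⧸ Z, q₁ * q₂ = q₂ * q₁ := by
    intro q₁ q₂
    induction q₁ using QuotientGroup.induction_on with
    | H a =>
      induction q₂ using QuotientGroup.induction_on with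
      | H b =>
        rw [← QuotientGroup.mk_mul, ← QuotientGroup.mk_mul, QuotientGroup.eq]
        have : (a * b)⁻¹ * (b * a) = (b⁻¹ * a⁻¹ * (b⁻¹)⁻¹ * (a⁻¹)⁻¹) := by group
        rw [this]
        exact hcl b⁻¹ a⁻¹
  -- the map `q ↦ q⁻¹ x̄(q)` on the quotient
  have hwd : ∀ a b : H, QuotientGroup.leftRel Z a b →
      QuotientGroup.leftRel Z (a⁻¹ * x a) (b⁻¹ * x b) := by
    intro a b hab
    rw [QuotientGroup.leftRel_apply] at hab ⊢
    -- b = a z
    set z := a⁻¹ * b with hz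
    have hb : b = a * z := by rw [hz]; group
    have hxz : x z ∈ Z := fl_p_center_inv x hab
    have h1 : (a⁻¹ * x a)⁻¹ * (b⁻¹ * x b) = (x a)⁻¹ * (z⁻¹ * x a) * x z := by
      rw [hb, map_mul]
      have : a * (a * z)⁻¹ = z⁻¹ := by
        have hc := fl_pc_central_comm hab a
        rw [hc]; group
      calc (a⁻¹ * x a)⁻¹ * ((a * z)⁻¹ * (x a * x z))
          = (x a)⁻¹ * (a * (a * z)⁻¹) * x a * x z := by group
        _ = (x a)⁻¹ * (z⁻¹ * x a) * x z := by rw [this]; group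
    rw [h1]
    have hzi : z⁻¹ ∈ Z := Z.inv_mem hab
    have hc2 := fl_pc_central_comm hzi (x a)
    -- x a * z⁻¹ = z⁻¹ * x a
    rw [← hc2]
    have : (x a)⁻¹ * (x a * z⁻¹) * x z = z⁻¹ * x z := by group
    rw [this]
    exact Z.mul_mem hzi hxz
  let g : H ⧸ Z → H ⧸ Z := Quotient.map' (fun h => h⁻¹ * x h) hwd
  have hg : ∀ h : H, g (QuotientGroup.mk h) = QuotientGroup.mk (h⁻¹ * x h) := fun h => rfl
  have hginj : Function.Injective g := by
    intro q₁ q₂ h12
    induction q₁ using QuotientGroup.induction_on with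
    | H a =>
      induction q₂ using QuotientGroup.induction_on with
      | H b =>
        rw [hg, hg] at h12
        rw [QuotientGroup.eq]
        -- (a⁻¹ b)⁻¹ x(a⁻¹ b) ∈ Z
        apply hfree
        rw [← QuotientGroup.eq_one_iff]
        have e1 : ((a⁻¹ * b)⁻¹ * x (a⁻¹ * b) : H) = b⁻¹ * a * ((x a)⁻¹ * x b) := by
          rw [map_mul, map_inv]; group
        rw [e1]
        simp only [QuotientGroup.mk_mul, QuotientGroup.mk_inv] at h12 ⊢
        -- h12 : (↑a)⁻¹ * ↑(x a) = (↑b)⁻¹ * ↑(x b)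
        have h4 : ((x a : H) : H ⧸ Z)⁻¹ * ((x b : H) : H ⧸ Z)
            = ((a : H) : H ⧸ Z)⁻¹ * ((b : H) : H ⧸ Z) := by
          have h5 : ((x b : H) : H ⧸ Z) = ((b : H) : H ⧸ Z) * (((a : H) : H ⧸ Z)⁻¹ * ((x a : H) : H ⧸ Z)) := by
            rw [h12]; group
          rw [h5]
          set X := ((x a : H) : H ⧸ Z)
          set A := ((a : H) : H ⧸ Z)
          set B := ((b : H) : H ⧸ Z)
          calc X⁻¹ * (B * (A⁻¹ * X)) = X⁻¹ * ((B * A⁻¹) * X) := by group
            _ = X⁻¹ * (X * (B * A⁻¹)) := by rw [hQcomm (B * A⁻¹) X]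
            _ = B * A⁻¹ := by group
            _ = A⁻¹ * B := hQcomm _ _
        rw [h4]
        group
  have hgsurj : Function.Surjective g := Finite.surjective_of_injective hginj
  -- Step B: every b commutes with x b
  have hB : ∀ b : H, b * x b = x b * b := by
    intro b
    obtain ⟨q, hq⟩ := hgsurj (QuotientGroup.mk b)
    induction q using QuotientGroup.induction_on with
    | H h =>
      rw [hg, QuotientGroup.eq] at hq
      set f := h⁻¹ * x h with hf
      set z := f⁻¹ * b with hz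
      have hb : b = f * z := by rw [hz]; group
      have hxz : x z ∈ Z := fl_p_center_inv x hq
      have c1 := fl_pc_central_comm hq
      have c2 := fl_pc_central_comm hxz
      have hAf := hA h
      rw [← hf] at hAf
      rw [hb, map_mul]
      calc f * z * (x f * x z) = f * (z * x f) * x z := by group
        _ = f * (x f * z) * x z := by rw [c1 (x f)]
        _ = (f * x f) * (z * x z) := by group
        _ = (x f * f) * (x z * z) := by rw [hAf, ← c1 (x z)]
        _ = x f * (f * x z) * z := by group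
        _ = x f * (x z * f) * z := by rw [c2 f]
        _ = x f * x z * (f * z) := by group
  -- Step C: polarization
  have hC : ∀ b d : H, fl_pc b (x d) = fl_pc (x b) d := by
    intro b d
    have h1 := (fl_pc_eq_one_iff _ _).2 (hB (b * d))
    rw [map_mul, fl_pc_mul_left hcl, fl_pc_mul_right hcl, fl_pc_mul_right hcl,
      (fl_pc_eq_one_iff _ _).2 (hB b), (fl_pc_eq_one_iff _ _).2 (hB d), one_mul, mul_one] at h1
    rw [fl_pc_swap d (x b)]
    exact eq_inv_of_mul_eq_one_left h1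
  -- Step D: invariance
  have hD : ∀ b d : H, fl_pc (x b) d = fl_pc b (x⁻¹ d) := by
    intro b d
    have h1 := hfixc b (x⁻¹ d)
    have h2 := fl_pc_map x b (x⁻¹ d)
    unfold fl_pc at h2
    rw [h1, MulAut.apply_inv_self] at h2
    unfold fl_pc
    exact h2.symm
  -- Step E
  have hE : ∀ d : H, x d * (x⁻¹ d)⁻¹ ∈ Z := by
    intro d
    rw [hZ, mem_center_iff]
    intro b
    have h1 : fl_pc b (x d * (x⁻¹ d)⁻¹) = 1 := by
      rw [fl_pc_mul_right hcl, fl_pc_inv_right hcl, hC, hD, mul_inv_cancel]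
    exact (fl_pc_eq_one_iff _ _).1 h1
  -- Step F: x² e * e⁻¹ ∈ Z
  have hF : ∀ e : H, (x ^ 2) e * e⁻¹ ∈ Z := by
    intro e
    have := hE (x e)
    rwa [MulAut.inv_apply_self, ← MulAut.mul_apply, ← pow_two] at this
  have hG : ∀ (k : ℕ) (e : H), ((x ^ 2) ^ k) e * e⁻¹ ∈ Z := by
    intro k
    induction k with
    | zero => intro e; simp
    | succ k ih =>
      intro e
      rw [pow_succ', MulAut.mul_apply]
      set z := ((x ^ 2) ^ k) e * e⁻¹ with hz
      have h1 : ((x ^ 2) ^ k) e = z * e := by rw [hz]; group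
      rw [h1, map_mul]
      have hz2 : (x ^ 2) z ∈ Z := by
        rw [pow_two, MulAut.mul_apply]
        exact fl_p_center_inv x (fl_p_center_inv x (ih e))
      have : (x ^ 2) z * (x ^ 2) e * e⁻¹ = (x ^ 2) z * ((x ^ 2) e * e⁻¹) := by group
      rw [this]
      exact Z.mul_mem hz2 (hF e)
  -- p odd: x = (x²)^((p+1)/2)
  have hpodd : p % 2 = 1 := by
    rcases hp.eq_two_or_odd with h | h
    · exact absurd h hodd
    · exact h
  have hx : (x ^ 2) ^ ((p + 1) / 2) = x := by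
    rw [← pow_mul]
    have : 2 * ((p + 1) / 2) = p + 1 := by omega
    rw [this, pow_succ, hxp, one_mul]
  have hH : ∀ e : H, e ∈ Z := by
    intro e
    apply hfree
    have h1 := hG ((p + 1) / 2) e
    rw [hx] at h1
    have h2 : e⁻¹ * x e = e⁻¹ * (x e * e⁻¹) * e := by group
    rw [h2, fl_pc_central_comm h1 e⁻¹]
    have : x e * e⁻¹ * e⁻¹ * e = x e * e⁻¹ := by group
    rw [this]
    exact h1
  obtain ⟨a, b, hab⟩ := hnab
  exact hab ((mem_center_iff.1 (hH b) a).symm ▸ rfl)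

end Cfsg.Agent.Flav
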