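import Mathlib

/-!
# S3816: the transfer step

`Z(H) ∩ H' ∩ T ≤ T'` for a Sylow subgroup `T` of the finite group `H`
(see `notes/S3816_proof_helper1.md`, "Transfer").
-/

set_option autoImplicit false

namespace Cfsg.Agent.Flav

universe u

variable {H : Type*} [Group H]

/-- `Z(H) ∩ H' ∩ T ≤ T'` for a Sylow subgroup `T`. -/
theorem fl_transfer [Finite H] {q : ℕ} [Fact q.Prime] (T : Sylow q H) (z : H)
    (hz : z ∈ Subgroup.center H) (hz' : z ∈ commutator H) (hzT : z ∈ (T : Subgroup H)) :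
    z ∈ ⁅(T : Subgroup H), (T : Subgroup H)⁆ := by
  classical
  have hq : q.Prime := Fact.out
  -- the transfer into the abelianisation of `T`
  have key : ∀ (k : ℕ) (g₀ : H), g₀⁻¹ * z ^ k * g₀ ∈ (T : Subgroup H) →
      g₀⁻¹ * z ^ k * g₀ = z ^ k := by
    intro k g₀ _
    have hzk : z ^ k ∈ Subgroup.center H := Subgroup.pow_mem _ hz k
    have hc : g₀ * z ^ k = z ^ k * g₀ := (Subgroup.mem_center_iff.1 hzk g₀)
    rw [mul_assoc, ← hc, inv_mul_cancel_left]
  have h1 := MonoidHom.transfer_eq_pow (H := (T : Subgroup H))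
    (Abelianization.of (G := ↥(T : Subgroup H))) z key
  have h2 : MonoidHom.transfer (H := (T : Subgroup H))
      (Abelianization.of (G := ↥(T : Subgroup H))) z = 1 := by
    have := Abelianization.commutator_subset_ker
      (MonoidHom.transfer (H := (T : Subgroup H)) (Abelianization.of (G := ↥(T : Subgroup H)))) hz'
    exact MonoidHom.mem_ker.1 this
  rw [h2] at h1
  -- so `ζ ^ index ∈ T'`
  set n := (T : Subgroup H).index with hn
  set ζ : ↥(T : Subgroup H) := ⟨z, hzT⟩ with hζ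
  have h3 : ζ ^ n ∈ commutator ↥(T : Subgroup H) := by
    rw [← Abelianization.ker_of, MonoidHom.mem_ker]
    have h5 : ζ ^ n = ⟨z ^ (T : Subgroup H).index, MonoidHom.transfer_eq_pow_aux z key⟩ :=
      Subtype.ext rfl
    rw [h5]
    exact h1.symm
  -- `ζ` has `q`-power order, `n` is prime to `q`
  have hcop : (orderOf ζ).Coprime n := by
    obtain ⟨k, hk⟩ := (T.2 ζ)
    have hdvd : orderOf ζ ∣ q ^ k := orderOf_dvd_of_pow_eq_one hk
    have hnq : ¬ q ∣ n := T.not_dvd_index
    have : (q ^ k).Coprime n := Nat.Coprime.pow_left k ((Nat.Prime.coprime_iff_not_dvd hq).2 hnq)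
    exact Nat.Coprime.coprime_dvd_left hdvd this
  have h4 : ζ ∈ commutator ↥(T : Subgroup H) := by
    have hz1 : ζ ^ ((orderOf ζ : ℤ) * Int.gcdA (orderOf ζ) n + (n : ℤ) * Int.gcdB (orderOf ζ) n)
        = ζ := by
      rw [← Int.gcd_eq_gcd_ab]
      have : Int.gcd (orderOf ζ : ℤ) (n : ℤ) = 1 := by
        rw [Int.gcd_natCast_natCast]; exact hcop
      rw [this]; simp
    rw [zpow_add, zpow_mul, zpow_mul, zpow_natCast, zpow_natCast, pow_orderOf_eq_one, one_zpow,
      one_mul] at hz1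
    rw [← hz1]
    exact Subgroup.zpow_mem _ h3 _
  rw [← Subgroup.map_subtype_commutator]
  exact ⟨ζ, h4, rfl⟩

end Cfsg.Agent.Flav
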