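import Cfsg.Agent.Flav.Ctx
import Cfsg.Agent.Flav.Polar
import Cfsg.Agent.Flav.Transfer
import Cfsg.Agent.Flav.CentralD

/-!
# S3816, the CENTRAL case (steps C0–C4 of `notes/S3816_proof_helper1.md`)

Every minimal `x`-invariant normal subgroup of the minimal counterexample is central: contradiction.
The steps are in `CentralA` (C0, C1), `CentralB` (C2), `CentralC` (C3), `CentralD` (C4).
-/

set_option autoImplicit false

namespace Cfsg.Agent.Flav

variable {H : Type*} [Group H]

theorem fl_central {p : ℕ} {x : MulAut H} (c : FlCtx H p x)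
    (hall : ∀ V : Subgroup H, flMin x V → V ≤ Subgroup.center H) : False := by
  have := c.fin
  have htop : (⊤ : Subgroup H) ≠ ⊥ := by
    intro h
    apply c.cex
    intro f _
    have : f ∈ (⊤ : Subgroup H) := Subgroup.mem_top f
    rw [h, Subgroup.mem_bot] at this
    rw [this]; exact one_mem _
  obtain ⟨V, hV, _⟩ := fl_c_exists_min_le x (N := ⊤) inferInstance (flInv_top x) htop
  obtain ⟨V₁, d⟩ := fl_c_exists_V1 c hall hV
  by_cases h : V₁ = ⊤
  · exact fl_c_case_top c hall hV d h
  · exact fl_c_case_ne_top c hall hV d h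

end Cfsg.Agent.Flav
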