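import Cfsg.Agent.Flav.Ctx
import Cfsg.Agent.Flav.Polar
import Cfsg.Agent.Flav.Transfer

/-!
# S3816, the CENTRAL case, part A (steps C0–C1 of `notes/S3816_proof_helper1.md`)

Every minimal `x`-invariant normal subgroup of the minimal counterexample is central: contradiction.
-/

set_option autoImplicit false

namespace Cfsg.Agent.Flav

open Subgroup
open scoped commutatorElement

variable {H : Type*} [Group H]

/-! ### generalities -/

/-- subgroups of the centre are normal -/
theorem fl_c_normal_of_le_center {N : Subgroup H} (hN : N ≤ center H) : N.Normal := by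
  constructor
  intro n hn g
  have h1 := mem_center_iff.1 (hN hn) g
  have : g * n * g⁻¹ = n := by rw [h1]; group
  rw [this]; exact hn

/-- subgroups of the fixed points are invariant -/
theorem fl_c_inv_of_le_fix {x : MulAut H} {N : Subgroup H} (hN : N ≤ flFix x) : flInv x N := by
  intro n hn
  rw [mem_flFix.1 (hN hn)]; exact hn

/-- a nontrivial invariant normal subgroup contains a minimal one -/
theorem fl_c_exists_min_le [Finite H] (x : MulAut H) {N : Subgroup H} (hN : N.Normal)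
    (hNx : flInv x N) (hN1 : N ≠ ⊥) : ∃ V : Subgroup H, flMin x V ∧ V ≤ N := by
  classical
  let s : Set (Subgroup H) := {N' | N'.Normal ∧ flInv x N' ∧ N' ≠ ⊥ ∧ N' ≤ N}
  have hs : s.Finite := Set.toFinite s
  have hne : s.Nonempty := ⟨N, hN, hNx, hN1, le_rfl⟩
  obtain ⟨m, hm⟩ := hs.exists_minimal hne
  refine ⟨m, ⟨hm.1.1, hm.1.2.1, hm.1.2.2.1, ?_⟩, hm.1.2.2.2⟩
  intro N'' hn hx hle
  by_cases h1 : N'' = ⊥
  · exact Or.inl h1
  · right
    have hmem : N'' ∈ s := ⟨hn, hx, h1, hle.trans hm.1.2.2.2⟩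
    exact le_antisymm hle (hm.2 hmem hle)

/-- `x⁻¹` preserves invariant subgroups when `x ^ p = 1` -/
theorem fl_c_inv_symm {p : ℕ} (hp : p.Prime) {x : MulAut H} (hxp : x ^ p = 1) {L : Subgroup H}
    (hL : flInv x L) : ∀ l ∈ L, x⁻¹ l ∈ L := by
  intro l hl
  have h1 : x⁻¹ = x ^ (p - 1) := by
    have h2 : x ^ (p - 1) * x = 1 := by
      rw [← pow_succ, Nat.sub_add_cancel hp.one_lt.le, hxp]
    exact (eq_inv_of_mul_eq_one_left h2).symm
  rw [h1]
  exact flInv_pow hL _ l hl

/-- the sup of invariant subgroups is invariant -/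
theorem fl_c_inv_sup {x : MulAut H} {L M : Subgroup H} (hL : flInv x L) (hM : flInv x M) :
    flInv x (L ⊔ M) := by
  intro l hl
  have h1 : (L ⊔ M).map (x : H ≃* H).toMonoidHom ≤ L ⊔ M := by
    rw [Subgroup.map_sup]
    apply sup_le_sup
    · rintro _ ⟨a, ha, rfl⟩
      exact hL a ha
    · rintro _ ⟨a, ha, rfl⟩
      exact hM a ha
  exact h1 ⟨l, hl, rfl⟩

/-- commutators with a central factor -/
theorem fl_c_comm_central_left {z : H} (hz : z ∈ center H) (a b : H) :
    (a * z) * b * (a * z)⁻¹ * b⁻¹ = a * b * a⁻¹ * b⁻¹ := by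
  have h := mem_center_iff.1 hz b
  have h1 : z * b * z⁻¹ = b := by rw [← h]; group
  calc (a * z) * b * (a * z)⁻¹ * b⁻¹ = a * (z * b * z⁻¹) * a⁻¹ * b⁻¹ := by group
    _ = a * b * a⁻¹ * b⁻¹ := by rw [h1]

theorem fl_c_comm_central_right {z : H} (hz : z ∈ center H) (a b : H) :
    a * (b * z) * a⁻¹ * (b * z)⁻¹ = a * b * a⁻¹ * b⁻¹ := by
  have h := mem_center_iff.1 hz a⁻¹
  have h1 : z * a⁻¹ * z⁻¹ = a⁻¹ := by rw [← h]; group
  calc a * (b * z) * a⁻¹ * (b * z)⁻¹ = a * b * (z * a⁻¹ * z⁻¹) * b⁻¹ := by group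
    _ = a * b * a⁻¹ * b⁻¹ := by rw [h1]

/-- an abelian invariant `L` with `[L,P] = L` has no fixed points -/
theorem fl_c_abelian_fix [Finite H] {x : MulAut H} {L : Subgroup H} (hL : flInv x L)
    (hab : ∀ a ∈ L, ∀ b ∈ L, a * b = b * a) (hLL : flC x L = L) : L ⊓ flFix x = ⊥ := by
  classical
  -- the homomorphism δ l = l⁻¹ x(l)
  let δ : L →* L :=
    { toFun := fun l => ⟨(l : H)⁻¹ * x l, L.mul_mem (L.inv_mem l.2) (hL l l.2)⟩
      map_one' := by
        apply Subtype.ext
        simp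
      map_mul' := by
        intro a b
        apply Subtype.ext
        show ((a : H) * b)⁻¹ * x ((a : H) * b) = ((a : H)⁻¹ * x a) * ((b : H)⁻¹ * x b)
        have h1 := hab _ (L.inv_mem b.2) _ (L.mul_mem (L.inv_mem a.2) (hL a a.2))
        rw [map_mul]
        calc ((a : H) * b)⁻¹ * (x a * x b) = ((b : H)⁻¹ * ((a : H)⁻¹ * x a)) * x b := by group
          _ = (((a : H)⁻¹ * x a) * (b : H)⁻¹) * x b := by rw [h1]
          _ = ((a : H)⁻¹ * x a) * ((b : H)⁻¹ * x b) := by group }
  have hδ : ∀ l : L, ((δ l : L) : H) = (l : H)⁻¹ * x l := fun l => rfl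
  -- the range contains all generators
  have hgen : ∀ (l : H) (hl : l ∈ L) (i : ℕ), ∃ r : L, r ∈ δ.range ∧ (r : H) = l⁻¹ * (x ^ i) l := by
    intro l hl i
    induction i with
    | zero => exact ⟨1, one_mem _, by simp⟩
    | succ i ih =>
      obtain ⟨r, hr, hre⟩ := ih
      refine ⟨r * δ ⟨(x ^ i) l, flInv_pow hL i l hl⟩, mul_mem hr ⟨_, rfl⟩, ?_⟩
      rw [Subgroup.coe_mul, hre, hδ]
      show l⁻¹ * (x ^ i) l * (((x ^ i) l)⁻¹ * x ((x ^ i) l)) = l⁻¹ * (x ^ (i + 1)) l
      rw [pow_succ', MulAut.mul_apply]; group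
  have hsurj : Function.Surjective δ := by
    intro l
    have h1 : flC x L ≤ (δ.range).map L.subtype := by
      rw [flC_le_iff]
      intro g hg i
      obtain ⟨r, hr, hre⟩ := hgen g hg i
      exact ⟨r, hr, hre⟩
    rw [hLL] at h1
    obtain ⟨r, ⟨l', hl'⟩, hre⟩ := h1 l.2
    refine ⟨l', ?_⟩
    rw [hl']
    exact Subtype.ext hre
  have hinj : Function.Injective δ := Finite.injective_iff_surjective.2 hsurj
  rw [eq_bot_iff]
  rintro l ⟨hl, hf⟩
  rw [mem_bot]
  have h1 : δ ⟨l, hl⟩ = δ 1 := by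
    apply Subtype.ext
    rw [hδ, hδ]
    show l⁻¹ * x l = (1 : H)⁻¹ * x 1
    rw [mem_flFix.1 hf]; simp
  have h2 := hinj h1
  exact congrArg Subtype.val h2

/-! ### (C0) -/

section ctx

variable {p : ℕ} {x : MulAut H}

/-- no nontrivial central fixed subgroup inside `K` -/
theorem fl_c_no_cfk (c : FlCtx H p x) {N : Subgroup H} (hNc : N ≤ center H)
    (hNf : N ≤ flFix x) (hNK : N ≤ flK x) : N = ⊥ := by
  by_contra h1
  exact c.not_le (fl_c_normal_of_le_center hNc) (fl_c_inv_of_le_fix hNf) h1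
    (inf_le_left.trans hNK)

/-- (C0a) `V ≤ Fix` -/
theorem fl_c_le_fix (c : FlCtx H p x) {V : Subgroup H} (hV : flMin x V)
    (hVc : V ≤ center H) : V ≤ flFix x := by
  have h1 : V ⊓ flFix x ≠ ⊥ := by
    intro h
    apply c.not_le hV.1 hV.2.1 hV.2.2.1
    rw [h]; exact bot_le
  have h2 := hV.2.2.2 (V ⊓ flFix x) (fl_c_normal_of_le_center (inf_le_left.trans hVc))
    (flInv_inf hV.2.1 (flInv_flFix x)) inf_le_left
  rcases h2 with h2 | h2
  · exact absurd h2 h1
  · rw [← h2]; exact inf_le_right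

/-- (C0b) `V` has no proper nontrivial subgroup -/
theorem fl_c_simple (c : FlCtx H p x) {V : Subgroup H} (hV : flMin x V)
    (hVc : V ≤ center H) {N : Subgroup H} (hN : N ≤ V) : N = ⊥ ∨ N = V :=
  hV.2.2.2 N (fl_c_normal_of_le_center (hN.trans hVc))
    (fl_c_inv_of_le_fix (hN.trans (fl_c_le_fix c hV hVc))) hN

/-- (C0c) `V ∩ K = 1` -/
theorem fl_c_inf_K (c : FlCtx H p x) {V : Subgroup H} (hV : flMin x V)
    (hVc : V ≤ center H) : V ⊓ flK x = ⊥ := by
  rcases fl_c_simple c hV hVc (inf_le_left : V ⊓ flK x ≤ V) with h | h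
  · exact h
  · exfalso
    apply c.not_le hV.1 hV.2.1 hV.2.2.1
    have : V ≤ flK x := by rw [← h]; exact inf_le_right
    exact inf_le_left.trans this

theorem fl_c_eq_one_of_mem (c : FlCtx H p x) {V : Subgroup H} (hV : flMin x V)
    (hVc : V ≤ center H) {w : H} (hwV : w ∈ V) (hwK : w ∈ flK x) : w = 1 := by
  have : w ∈ V ⊓ flK x := ⟨hwV, hwK⟩
  rw [fl_c_inf_K c hV hVc, mem_bot] at this
  exact this

/-- (C0d) `Z(H) ∩ Fix ≤ V` -/
theorem fl_c_center_fix_le (c : FlCtx H p x) {V : Subgroup H} (hV : flMin x V)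
    (hVc : V ≤ center H) : center H ⊓ flFix x ≤ V := by
  rintro z ⟨hzc, hzf⟩
  have h1 := c.f3 V hV.1 hV.2.1 hV.2.2.1 hzf
  have := hV.1
  rw [mem_sup_of_normal_right] at h1
  obtain ⟨k, hk, v, hv, rfl⟩ := h1
  have hkc : k ∈ center H := by
    have : k = (k * v) * v⁻¹ := by group
    rw [this]
    exact (center H).mul_mem hzc ((center H).inv_mem (hVc hv))
  have hkf : k ∈ flFix x := flK_le_flFix x hk
  have hk1 : zpowers k = ⊥ := by
    apply fl_c_no_cfk c
    · rw [zpowers_le]; exact hkc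
    · rw [zpowers_le]; exact hkf
    · rw [zpowers_le]; exact hk
  rw [zpowers_eq_bot] at hk1
  rw [hk1, one_mul]; exact hv

/-- uniqueness: every nontrivial invariant normal subgroup contains `V` -/
theorem fl_c_le_of_normal (c : FlCtx H p x)
    (hall : ∀ V : Subgroup H, flMin x V → V ≤ center H) {V : Subgroup H} (hV : flMin x V)
    {N : Subgroup H} (hN : N.Normal) (hNx : flInv x N) (hN1 : N ≠ ⊥) : V ≤ N := by
  have := c.fin
  obtain ⟨V', hV', hle⟩ := fl_c_exists_min_le x hN hNx hN1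
  have hVc := hall V hV
  have hVc' := hall V' hV'
  have h1 : V' ≤ V :=
    (le_inf hVc' (fl_c_le_fix c hV' hVc')).trans (fl_c_center_fix_le c hV hVc)
  rcases hV.2.2.2 V' hV'.1 hV'.2.1 h1 with h2 | h2
  · exact absurd h2 hV'.2.2.1
  · rw [← h2]; exact hle

/-- `H` is not abelian -/
theorem fl_c_nonabelian (c : FlCtx H p x) : ∃ a b : H, a * b ≠ b * a := by
  have := c.fin
  by_contra hcon
  push Not at hcon
  have h1 : (⊤ : Subgroup H) ⊓ flFix x = ⊥ :=
    fl_c_abelian_fix (flInv_top x) (fun a _ b _ => hcon a b) c.f2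
  apply c.cex
  intro f hf
  have : f ∈ (⊤ : Subgroup H) ⊓ flFix x := ⟨mem_top f, hf⟩
  rw [h1, mem_bot] at this
  rw [this]; exact one_mem _

/-- `Z(H) = V` -/
theorem fl_c_center_eq (c : FlCtx H p x)
    (hall : ∀ V : Subgroup H, flMin x V → V ≤ center H) {V : Subgroup H} (hV : flMin x V) :
    center H = V := by
  have hVc := hall V hV
  apply le_antisymm _ hVc
  have hZx : flInv x (center H) := fun z hz => fl_p_center_inv x hz
  have hZtop : center H ≠ ⊤ := by
    intro h
    obtain ⟨a, b, hab⟩ := fl_c_nonabelian c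
    apply hab
    have : b ∈ center H := by rw [h]; exact mem_top b
    exact mem_center_iff.1 this a
  have h4 := c.f4 (center H) hZx hZtop
  set N := flC x (center H) with hN
  have hNZ : N ≤ center H := flC_le hZx
  have hNbot : N = ⊥ := by
    by_contra hne
    have hVN : V ≤ N :=
      fl_c_le_of_normal c hall hV (fl_c_normal_of_le_center hNZ) (flC_inv hZx) hne
    apply hV.2.2.1
    rw [eq_bot_iff]
    intro v hv
    have hvK : v ∈ flK x := h4 ⟨hVN hv, fl_c_le_fix c hV hVc hv⟩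
    rw [mem_bot]
    exact fl_c_eq_one_of_mem c hV hVc hv hvK
  intro z hz
  have h1 : z⁻¹ * (x ^ 1) z ∈ N := flC_gen_mem x hz 1
  rw [hNbot, mem_bot, pow_one] at h1
  have hzf : z ∈ flFix x := by
    rw [mem_flFix]
    calc x z = z * (z⁻¹ * x z) := by group
      _ = z := by rw [h1, mul_one]
  exact fl_c_center_fix_le c hV hVc ⟨hz, hzf⟩

/-- the commutator subgroup is invariant -/
theorem fl_c_commutator_inv (x : MulAut H) : flInv x (commutator H) := by
  intro l hl
  rw [commutator_eq_closure] at hl ⊢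
  induction hl using closure_induction with
  | mem c hc =>
    obtain ⟨a, b, rfl⟩ := hc
    apply Subgroup.subset_closure
    refine ⟨x a, x b, ?_⟩
    simp [commutatorElement_def]
  | one => rw [map_one]; exact one_mem _
  | mul a b _ _ ha hb => rw [map_mul]; exact mul_mem ha hb
  | inv a _ ha => rw [map_inv]; exact inv_mem ha

/-- (C1) `V ≤ H'` -/
theorem fl_c_le_commutator (c : FlCtx H p x)
    (hall : ∀ V : Subgroup H, flMin x V → V ≤ center H) {V : Subgroup H} (hV : flMin x V) :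
    V ≤ commutator H := by
  apply fl_c_le_of_normal c hall hV inferInstance (fl_c_commutator_inv x)
  intro h
  obtain ⟨a, b, hab⟩ := fl_c_nonabelian c
  apply hab
  have h1 : ⁅a, b⁆ ∈ commutator H := by
    rw [commutator_eq_closure]
    exact Subgroup.subset_closure ⟨a, b, rfl⟩
  rw [h, mem_bot, commutatorElement_def] at h1
  calc a * b = (a * b * a⁻¹ * b⁻¹) * (b * a) := by group
    _ = b * a := by rw [h1, one_mul]

end ctx

end Cfsg.Agent.Flav
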