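import Cfsg.Agent.Flav.Basic

/-!
# S3816: three generic lemmas for the central case
* `fl_ca_exists_sylow` : an `x`-invariant Sylow `q`-subgroup (coprime action of prime order);
* `fl_ca_le_sylow`     : a normal `q`-subgroup lies in every Sylow `q`-subgroup;
* `fl_ca_exists_upper` : in a `q`-group, a proper normal subgroup `V` has an element outside `V`
  which is central modulo `V`.
-/

set_option autoImplicit false

namespace Cfsg.Agent.Flav

open Subgroup

variable {H : Type*} [Group H]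

theorem fl_ca_exists_sylow [Finite H] {p : ℕ} (hp : p.Prime) (hcop : (Nat.card H).Coprime p)
    {x : MulAut H} (hxp : x ^ p = 1) (q : ℕ) [Fact q.Prime] :
    ∃ T : Sylow q H, ∀ t ∈ (T : Subgroup H), x t ∈ (T : Subgroup H) := by
  classical
  haveI : Fact p.Prime := ⟨hp⟩
  haveI : Fintype (Sylow q H) := Fintype.ofFinite _
  set σ : Equiv.Perm (Sylow q H) := MulAction.toPermHom (MulAut H) (Sylow q H) x with hσ
  have hσp : σ ^ p ^ 1 = 1 := by
    rw [pow_one, hσ, ← map_pow, hxp, map_one]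
  have hcard : ¬ p ∣ Fintype.card (Sylow q H) := by
    intro hdvd
    rw [← Nat.card_eq_fintype_card] at hdvd
    obtain ⟨T0⟩ : Nonempty (Sylow q H) := inferInstance
    have h1 : Nat.card (Sylow q H) ∣ Nat.card H :=
      (Sylow.card_dvd_index T0).trans (Subgroup.index_dvd_card _)
    have h2 : p ∣ Nat.card H := hdvd.trans h1
    have h3 : p ∣ Nat.gcd (Nat.card H) p := Nat.dvd_gcd h2 (dvd_refl p)
    rw [hcop] at h3
    exact hp.one_lt.ne' (Nat.dvd_one.1 h3)
  obtain ⟨T, hT⟩ := Equiv.Perm.exists_fixed_point_of_prime hcard hσp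
  refine ⟨T, ?_⟩
  intro t ht
  have h1 : x • T = T := hT
  have h2 : x • t ∈ ((x • T : Sylow q H) : Subgroup H) := by
    rw [Sylow.pointwise_smul_def]
    exact Subgroup.smul_mem_pointwise_smul t x _ ht
  rw [h1] at h2
  exact h2

theorem fl_ca_le_sylow [Finite H] {q : ℕ} [Fact q.Prime] {V : Subgroup H} (hVn : V.Normal)
    (hVq : IsPGroup q V) (T : Sylow q H) : V ≤ (T : Subgroup H) := by
  obtain ⟨Q, hQ⟩ := IsPGroup.exists_le_sylow hVq
  obtain ⟨g, hg⟩ := MulAction.exists_smul_eq H Q T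
  intro v hv
  have h1 : g⁻¹ * v * g ∈ V := by
    have := hVn.conj_mem v hv g⁻¹
    rwa [inv_inv] at this
  have h2 : g⁻¹ * v * g ∈ (Q : Subgroup H) := hQ h1
  have h3 : g * (g⁻¹ * v * g) * g⁻¹ ∈ ((g • Q : Sylow q H) : Subgroup H) := by
    rw [Sylow.smul_def, Sylow.pointwise_smul_def]
    have := Subgroup.smul_mem_pointwise_smul (g⁻¹ * v * g) (MulAut.conj g) (Q : Subgroup H) h2
    rw [MulAut.smul_def, MulAut.conj_apply] at this
    exact this
  rw [hg] at h3
  have h4 : g * (g⁻¹ * v * g) * g⁻¹ = v := by group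
  rwa [h4] at h3

theorem fl_ca_exists_upper [Finite H] {q : ℕ} [Fact q.Prime] (hq : IsPGroup q H)
    {V : Subgroup H} (hVn : V.Normal) (hVtop : V ≠ ⊤) :
    ∃ z : H, z ∉ V ∧ ∀ h : H, z * h * z⁻¹ * h⁻¹ ∈ V := by
  haveI := hVn
  have hqQ : IsPGroup q (H ⧸ V) := hq.to_quotient V
  haveI : Nontrivial (H ⧸ V) := by
    rw [← not_subsingleton_iff_nontrivial]
    intro hs
    apply hVtop
    rw [eq_top_iff]
    intro h _
    rw [← QuotientGroup.eq_one_iff]
    exact Subsingleton.elim _ _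
  haveI : Nontrivial (center (H ⧸ V)) := hqQ.center_nontrivial
  obtain ⟨⟨zb, hzb⟩, hne⟩ := exists_ne (1 : center (H ⧸ V))
  obtain ⟨z, rfl⟩ := QuotientGroup.mk_surjective zb
  refine ⟨z, ?_, ?_⟩
  · intro hzV
    apply hne
    apply Subtype.ext
    exact (QuotientGroup.eq_one_iff z).2 hzV
  · intro h
    rw [← QuotientGroup.eq_one_iff]
    have hc := Subgroup.mem_center_iff.1 hzb (h : H ⧸ V)
    have h1 : ((z * h * z⁻¹ * h⁻¹ : H) : H ⧸ V)
        = (z : H ⧸ V) * (h : H ⧸ V) * (z : H ⧸ V)⁻¹ * (h : H ⧸ V)⁻¹ := by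
      simp
    rw [h1, ← hc]
    group

end Cfsg.Agent.Flav
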