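import Cfsg.Agent.Flav.Basic

/-!
# S3816: three generic side lemmas for the central case (requested by helper2)
-/

set_option autoImplicit false

namespace Cfsg.Agent.Flav

open Subgroup

variable {H : Type*} [Group H]

/-- `θ h := u h u⁻¹ h⁻¹` is a homomorphism into the central `V`, so it kills commutators:
`u` commutes with every commutator. -/
theorem fl_cb_comm_comm {V : Subgroup H} (hVc : V ≤ center H) {u : H}
    (hu : ∀ h : H, u * h * u⁻¹ * h⁻¹ ∈ V) (a b : H) :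
    (a * b * a⁻¹ * b⁻¹) * u = u * (a * b * a⁻¹ * b⁻¹) := by
  have hz : ∀ h g : H, g * (u * h * u⁻¹ * h⁻¹) = (u * h * u⁻¹ * h⁻¹) * g :=
    fun h g => mem_center_iff.1 (hVc (hu h)) g
  have hmul : ∀ a b : H, u * (a * b) * u⁻¹ * (a * b)⁻¹
      = (u * a * u⁻¹ * a⁻¹) * (u * b * u⁻¹ * b⁻¹) := by
    intro a b
    calc u * (a * b) * u⁻¹ * (a * b)⁻¹
        = u * a * u⁻¹ * ((u * b * u⁻¹ * b⁻¹) * a⁻¹) := by group
      _ = u * a * u⁻¹ * (a⁻¹ * (u * b * u⁻¹ * b⁻¹)) := by rw [hz b a⁻¹]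
      _ = (u * a * u⁻¹ * a⁻¹) * (u * b * u⁻¹ * b⁻¹) := by group
  let θ : H →* ↥(center H) := MonoidHom.mk' (fun h => ⟨u * h * u⁻¹ * h⁻¹, hVc (hu h)⟩)
    (fun a b => Subtype.ext (hmul a b))
  have hθ : ∀ h, ((θ h : ↥(center H)) : H) = u * h * u⁻¹ * h⁻¹ := fun h => rfl
  have hc : ∀ s t : ↥(center H), s * t = t * s :=
    fun s t => Subtype.ext (mem_center_iff.1 t.2 s.1)
  have h1 : θ (a * b * a⁻¹ * b⁻¹) = 1 := by
    rw [map_mul, map_mul, map_mul, map_inv, map_inv, hc (θ a) (θ b), mul_inv_cancel_right,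
      mul_inv_cancel]
  have h2 : u * (a * b * a⁻¹ * b⁻¹) * u⁻¹ * (a * b * a⁻¹ * b⁻¹)⁻¹ = 1 := by
    rw [← hθ, h1]; rfl
  calc (a * b * a⁻¹ * b⁻¹) * u
      = (u * (a * b * a⁻¹ * b⁻¹) * u⁻¹ * (a * b * a⁻¹ * b⁻¹)⁻¹)⁻¹
          * (u * (a * b * a⁻¹ * b⁻¹)) := by group
    _ = u * (a * b * a⁻¹ * b⁻¹) := by rw [h2, inv_one, one_mul]

/-- a fixed point `u` with `[u, H] ≤ V ≤ Fix` is central when `H = [H, P]`. -/
theorem fl_cb_central_of_fix {x : MulAut H} {V : Subgroup H} (hVf : V ≤ flFix x)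
    (hf2 : flC x ⊤ = ⊤) {u : H} (hu : ∀ h : H, u * h * u⁻¹ * h⁻¹ ∈ V) (huf : u ∈ flFix x) :
    u ∈ center H := by
  have h1 : flC x ⊤ ≤ centralizer ({u} : Set H) := by
    rw [flC_le_iff]
    intro l _ i
    rw [mem_centralizer_iff]
    intro y hy
    rw [Set.mem_singleton_iff] at hy
    subst hy
    have hz := flFix_pow (hVf (hu l)) i
    rw [map_mul, map_mul, map_mul, map_inv, map_inv, flFix_pow huf i] at hz
    set l' := (x ^ i) l with hl'
    have h2 : (l⁻¹ * l') * y⁻¹ * (l⁻¹ * l')⁻¹ = y⁻¹ := by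
      calc (l⁻¹ * l') * y⁻¹ * (l⁻¹ * l')⁻¹
          = l⁻¹ * (y⁻¹ * (y * l' * y⁻¹ * l'⁻¹)) * l := by group
        _ = l⁻¹ * (y⁻¹ * (y * l * y⁻¹ * l⁻¹)) * l := by rw [hz]
        _ = y⁻¹ := by group
    have h3 : (l⁻¹ * l') * y⁻¹ = y⁻¹ * (l⁻¹ * l') := by
      conv_rhs => rw [← h2]
      group
    calc y * (l⁻¹ * l') = y * (y⁻¹ * (l⁻¹ * l')) * y := by rw [← h3]; group
      _ = l⁻¹ * l' * y := by group
  rw [hf2] at h1
  rw [mem_center_iff]
  intro g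
  have := mem_centralizer_iff.1 (h1 (mem_top g)) u (Set.mem_singleton u)
  exact this.symm

/-- the centralizer of an invariant subgroup is invariant. -/
theorem fl_cb_centralizer_inv {p : ℕ} (hp : p.Prime) {x : MulAut H} (hxp : x ^ p = 1)
    {L : Subgroup H} (hL : flInv x L) : flInv x (centralizer (L : Set H)) := by
  intro c hc
  rw [mem_centralizer_iff] at hc ⊢
  intro l hl
  have hl' : (x ^ (p - 1)) l ∈ L := flInv_pow hL (p - 1) l hl
  have hx : x ((x ^ (p - 1)) l) = l := by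
    rw [← MulAut.mul_apply, ← pow_succ', Nat.sub_add_cancel hp.one_lt.le, hxp]
    rfl
  have h1 := hc _ hl'
  calc l * x c = x ((x ^ (p - 1)) l) * x c := by rw [hx]
    _ = x ((x ^ (p - 1)) l * c) := (map_mul x _ _).symm
    _ = x (c * (x ^ (p - 1)) l) := by rw [h1]
    _ = x c * x ((x ^ (p - 1)) l) := map_mul x _ _
    _ = x c * l := by rw [hx]

end Cfsg.Agent.Flav
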