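import Cfsg.Agent.Flav.CentralAux

/-!
# S3816: the second layer `V₁ / V` (central case, step C3)
In a `q`-group, above a proper invariant normal `V` there is a minimal invariant `V₁ > V`
inside the preimage of the centre of `H / V`.
-/

set_option autoImplicit false

namespace Cfsg.Agent.Flav

open Subgroup

variable {H : Type*} [Group H]

theorem fl_cc_exists_V1 [Finite H] {q : ℕ} [Fact q.Prime] (hq : IsPGroup q H) {x : MulAut H}
    {V : Subgroup H} (hVn : V.Normal) (hVx : flInv x V) (hVtop : V ≠ ⊤) :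
    ∃ V₁ : Subgroup H, V₁.Normal ∧ flInv x V₁ ∧ V < V₁ ∧
      (∀ u ∈ V₁, ∀ h : H, u * h * u⁻¹ * h⁻¹ ∈ V) ∧
      ∀ N : Subgroup H, flInv x N → V < N → N ≤ V₁ → N = V₁ := by
  classical
  -- the preimage of the centre of `H / V`
  let Z : Subgroup H :=
    { carrier := {g | ∀ h : H, g * h * g⁻¹ * h⁻¹ ∈ V}
      one_mem' := by
        intro h
        have : (1 : H) * h * 1⁻¹ * h⁻¹ = 1 := by group
        rw [this]
        exact V.one_mem
      mul_mem' := by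
        intro a b ha hb h
        have h1 : a * b * h * (a * b)⁻¹ * h⁻¹
            = a * (b * h * b⁻¹ * h⁻¹) * a⁻¹ * (a * h * a⁻¹ * h⁻¹) := by group
        rw [h1]
        exact V.mul_mem (hVn.conj_mem _ (hb h) a) (ha h)
      inv_mem' := by
        intro a ha h
        have h1 : a⁻¹ * h * a⁻¹⁻¹ * h⁻¹ = a⁻¹ * (a * h * a⁻¹ * h⁻¹)⁻¹ * a⁻¹⁻¹ := by group
        rw [h1]
        exact hVn.conj_mem _ (V.inv_mem (ha h)) a⁻¹ }
  have hZmem : ∀ g : H, g ∈ Z ↔ ∀ h : H, g * h * g⁻¹ * h⁻¹ ∈ V := fun g => Iff.rfl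
  have hVZ : V ≤ Z := by
    intro v hv
    rw [hZmem]
    intro h
    have h1 : v * h * v⁻¹ * h⁻¹ = v * (h * v⁻¹ * h⁻¹) := by group
    rw [h1]
    exact V.mul_mem hv (hVn.conj_mem _ (V.inv_mem hv) h)
  have hVltZ : V < Z := by
    obtain ⟨z, hzV, hz⟩ := fl_ca_exists_upper hq hVn hVtop
    refine lt_of_le_of_ne hVZ ?_
    intro he
    apply hzV
    rw [he]
    exact (hZmem z).2 hz
  have hZx : flInv x Z := by
    intro g hg
    rw [hZmem] at hg ⊢
    intro h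
    have h1 : x g * h * (x g)⁻¹ * h⁻¹ = x (g * (x⁻¹ h) * g⁻¹ * (x⁻¹ h)⁻¹) := by
      simp only [map_mul, map_inv, MulAut.apply_inv_self]
    rw [h1]
    exact hVx _ (hg _)
  -- every `N` between `V` and `Z` is normal
  have hnorm : ∀ N : Subgroup H, V ≤ N → N ≤ Z → N.Normal := by
    intro N hVN hNZ
    constructor
    intro n hn g
    have h1 : g * n * g⁻¹ = g * (n * g⁻¹ * n⁻¹ * g⁻¹⁻¹) * g⁻¹ * n := by group
    rw [h1]
    exact N.mul_mem (hVN (hVn.conj_mem _ ((hZmem n).1 (hNZ hn) g⁻¹) g)) hn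
  -- pick a minimal one
  let S : Set (Subgroup H) := {N | flInv x N ∧ V < N ∧ N ≤ Z}
  have hSfin : S.Finite := Set.toFinite S
  have hSne : S.Nonempty := ⟨Z, hZx, hVltZ, le_refl Z⟩
  obtain ⟨V₁, hV₁S, hV₁min⟩ := hSfin.exists_minimal hSne
  obtain ⟨hV₁x, hVV₁, hV₁Z⟩ := hV₁S
  refine ⟨V₁, hnorm V₁ hVV₁.le hV₁Z, hV₁x, hVV₁, ?_, ?_⟩
  · intro u hu h
    exact (hZmem u).1 (hV₁Z hu) h
  · intro N hNx hVN hNV₁
    exact le_antisymm hNV₁ (hV₁min ⟨hNx, hVN, hNV₁.trans hV₁Z⟩ hNV₁)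

end Cfsg.Agent.Flav
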