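import Cfsg.Agent.Flav.CentralA
import Cfsg.Agent.Flav.CentralAux

/-!
# S3816, the CENTRAL case, part B (step C2: `H` is a `q`-group)
-/

set_option autoImplicit false

namespace Cfsg.Agent.Flav

open Subgroup
open scoped commutatorElement

variable {H : Type*} [Group H] {p : ℕ} {x : MulAut H}

/-- `V` is a `q`-group for a prime `q` -/
theorem fl_c_exists_prime (c : FlCtx H p x) {V : Subgroup H} (hV : flMin x V)
    (hVc : V ≤ center H) : ∃ q : ℕ, q.Prime ∧ IsPGroup q V := by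
  have := c.fin
  have hcard : Nat.card V ≠ 1 := by
    intro h
    exact hV.2.2.1 (Subgroup.card_eq_one.1 h)
  obtain ⟨q, hq, hqd⟩ := Nat.exists_prime_and_dvd hcard
  have := Fact.mk hq
  obtain ⟨v, hv⟩ := exists_prime_orderOf_dvd_card' q hqd
  refine ⟨q, hq, ?_⟩
  have h1 : zpowers (v : H) ≤ V := by rw [zpowers_le]; exact v.2
  rcases fl_c_simple c hV hVc h1 with h2 | h2
  · exfalso
    rw [zpowers_eq_bot] at h2
    have : v = 1 := Subtype.ext h2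
    rw [this, orderOf_one] at hv
    exact hq.one_lt.ne hv
  · have hc : Nat.card V = q ^ 1 := by
      rw [pow_one, ← h2, Nat.card_zpowers, Subgroup.orderOf_coe, hv]
    exact IsPGroup.of_card hc

/-- commutators of fixed points lie in `K` -/
theorem fl_c_fix_comm_mem (c : FlCtx H p x) {V : Subgroup H} (hV : flMin x V)
    (hVc : V ≤ center H) {a b : H} (ha : a ∈ flFix x) (hb : b ∈ flFix x) :
    a * b * a⁻¹ * b⁻¹ ∈ flK x := by
  have h1 := c.f3 V hV.1 hV.2.1 hV.2.2.1 ha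
  have h2 := c.f3 V hV.1 hV.2.1 hV.2.2.1 hb
  have := hV.1
  rw [mem_sup_of_normal_right] at h1 h2
  obtain ⟨k, hk, v, hv, rfl⟩ := h1
  obtain ⟨k', hk', v', hv', rfl⟩ := h2
  rw [fl_c_comm_central_left (hVc hv), fl_c_comm_central_right (hVc hv')]
  exact mul_mem (mul_mem (mul_mem hk hk') (inv_mem hk)) (inv_mem hk')

/-- `T' ≤ (K ∩ T)[T,P]` for an invariant `T` -/
theorem fl_c_comm_decomp (c : FlCtx H p x) {V : Subgroup H} (hV : flMin x V)
    (hVc : V ≤ center H) {T : Subgroup H} (hTx : flInv x T) :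
    ∀ w ∈ ⁅T, T⁆, ∃ k ∈ flK x, ∃ b ∈ flC x T, w = k * b := by
  have := c.fin
  let S : Subgroup H :=
    { carrier := {w | ∃ k, k ∈ flK x ∧ k ∈ T ∧ ∃ b ∈ flC x T, w = k * b}
      one_mem' := ⟨1, one_mem _, one_mem _, 1, one_mem _, by simp⟩
      mul_mem' := by
        rintro _ _ ⟨k, hk, hkT, b, hb, rfl⟩ ⟨k', hk', hkT', b', hb', rfl⟩
        refine ⟨k * k', mul_mem hk hk', mul_mem hkT hkT', (k'⁻¹ * b * k') * b',
          mul_mem (flC_conj_mem hkT' hb) hb', by group⟩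
      inv_mem' := by
        rintro _ ⟨k, hk, hkT, b, hb, rfl⟩
        refine ⟨k⁻¹, inv_mem hk, inv_mem hkT, k * b⁻¹ * k⁻¹,
          flC_conj_mem' hkT (inv_mem hb), by group⟩ }
  have hS : ⁅T, T⁆ ≤ S := by
    rw [Subgroup.commutator_le]
    intro t ht t' ht'
    obtain ⟨c₁, hc₁, k₁, hk₁, rfl⟩ := fl_fix_mul_flC c.pp c.xp c.cop hTx ht
    obtain ⟨c₂, hc₂, k₂, hk₂, rfl⟩ := fl_fix_mul_flC c.pp c.xp c.cop hTx ht'
    have hg₁ : c₂ * c₁ * c₂⁻¹ ∈ T := mul_mem (mul_mem hc₂.1 hc₁.1) (inv_mem hc₂.1)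
    have hg₂ : c₂ * c₁ ∈ T := mul_mem hc₂.1 hc₁.1
    refine ⟨c₁ * c₂ * c₁⁻¹ * c₂⁻¹, fl_c_fix_comm_mem c hV hVc hc₁.2 hc₂.2,
      mul_mem (mul_mem (mul_mem hc₁.1 hc₂.1) (inv_mem hc₁.1)) (inv_mem hc₂.1),
      ((c₂ * c₁ * c₂⁻¹) * k₁ * (c₂ * c₁ * c₂⁻¹)⁻¹) *
        ((c₂ * c₁) * (k₂ * k₁⁻¹) * (c₂ * c₁)⁻¹) * (c₂ * k₂⁻¹ * c₂⁻¹),
      mul_mem (mul_mem (flC_conj_mem' hg₁ hk₁)
        (flC_conj_mem' hg₂ (mul_mem hk₂ (inv_mem hk₁)))) (flC_conj_mem' hc₂.1 (inv_mem hk₂)), ?_⟩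
    rw [commutatorElement_def]; group
  intro w hw
  obtain ⟨k, hk, _, b, hb, rfl⟩ := hS hw
  exact ⟨k, hk, b, hb, rfl⟩

/-- (C2) an invariant Sylow `q`-subgroup containing `V` is everything -/
theorem fl_c_sylow_top (c : FlCtx H p x)
    (hall : ∀ V : Subgroup H, flMin x V → V ≤ center H) {V : Subgroup H} (hV : flMin x V)
    {q : ℕ} [Fact q.Prime] (T : Sylow q H)
    (hTx : ∀ t ∈ (T : Subgroup H), x t ∈ (T : Subgroup H)) (hVT : V ≤ (T : Subgroup H)) :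
    (T : Subgroup H) = ⊤ := by
  have := c.fin
  have hVc := hall V hV
  by_contra hT
  apply hV.2.2.1
  rw [eq_bot_iff]
  intro v hv
  rw [mem_bot]
  have h1 : v ∈ ⁅(T : Subgroup H), (T : Subgroup H)⁆ :=
    fl_transfer T v (hVc hv) (fl_c_le_commutator c hall hV hv) (hVT hv)
  obtain ⟨k, hk, b, hb, rfl⟩ := fl_c_comm_decomp c hV hVc hTx v h1
  have hbf : b ∈ flFix x := by
    have : b = k⁻¹ * (k * b) := by group
    rw [this]
    exact mul_mem (inv_mem (flK_le_flFix x hk)) (fl_c_le_fix c hV hVc hv)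
  have hbK : b ∈ flK x := c.f4 T hTx hT ⟨hb, hbf⟩
  exact fl_c_eq_one_of_mem c hV hVc hv (mul_mem hk hbK)

/-- (C2) `H` is a `q`-group, `V ≠ ⊤` -/
theorem fl_c_pgroup (c : FlCtx H p x)
    (hall : ∀ V : Subgroup H, flMin x V → V ≤ center H) {V : Subgroup H} (hV : flMin x V) :
    ∃ q : ℕ, q.Prime ∧ IsPGroup q H := by
  have := c.fin
  obtain ⟨q, hq, hVq⟩ := fl_c_exists_prime c hV (hall V hV)
  have := Fact.mk hq
  obtain ⟨T, hTx⟩ := fl_ca_exists_sylow c.pp c.cop c.xp q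
  have hT := fl_c_sylow_top c hall hV T hTx (fl_ca_le_sylow hV.1 hVq T)
  refine ⟨q, hq, ?_⟩
  have h1 : IsPGroup q (T : Subgroup H) := T.isPGroup'
  rw [hT] at h1
  exact h1.of_equiv Subgroup.topEquiv

end Cfsg.Agent.Flav
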