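import Cfsg.Agent.Flav.CentralB
import Cfsg.Agent.Flav.CentralAux2
import Cfsg.Agent.Flav.CentralAux3

/-!
# S3816, the CENTRAL case, part C (steps C3–C4)
-/

set_option autoImplicit false

namespace Cfsg.Agent.Flav

open Subgroup

variable {H : Type*} [Group H] {p : ℕ} {x : MulAut H}

/-- the data of (C3): `V₁ / V` is a minimal invariant subgroup of `Z(H / V)` -/
structure FlV1 (x : MulAut H) (V V₁ : Subgroup H) : Prop where
  n : V₁.Normal
  inv : flInv x V₁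
  lt : V < V₁
  comm : ∀ u ∈ V₁, ∀ h : H, u * h * u⁻¹ * h⁻¹ ∈ V
  min : ∀ N : Subgroup H, flInv x N → V < N → N ≤ V₁ → N = V₁

theorem fl_c_V_ne_top (c : FlCtx H p x)
    (hall : ∀ V : Subgroup H, flMin x V → V ≤ center H) {V : Subgroup H} (hV : flMin x V) :
    V ≠ ⊤ := by
  intro h
  obtain ⟨a, b, hab⟩ := fl_c_nonabelian c
  apply hab
  have : b ∈ center H := by
    rw [fl_c_center_eq c hall hV, h]; exact mem_top b
  exact mem_center_iff.1 this a

theorem fl_c_exists_V1 (c : FlCtx H p x)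
    (hall : ∀ V : Subgroup H, flMin x V → V ≤ center H) {V : Subgroup H} (hV : flMin x V) :
    ∃ V₁ : Subgroup H, FlV1 x V V₁ := by
  have := c.fin
  obtain ⟨q, hq, hH⟩ := fl_c_pgroup c hall hV
  have := Fact.mk hq
  obtain ⟨V₁, h1, h2, h3, h4, h5⟩ :=
    fl_cc_exists_V1 hH hV.1 hV.2.1 (fl_c_V_ne_top c hall hV)
  exact ⟨V₁, h1, h2, h3, h4, h5⟩

/-- fixed points of `V₁` lie in `V`... in the form (★): `u⁻¹ x(u) ∈ V → u ∈ V` on `V₁` -/
theorem fl_c_star (c : FlCtx H p x)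
    (hall : ∀ V : Subgroup H, flMin x V → V ≤ center H) {V : Subgroup H} (hV : flMin x V)
    {V₁ : Subgroup H} (d : FlV1 x V V₁) : ∀ u ∈ V₁, u⁻¹ * x u ∈ V → u ∈ V := by
  have := c.fin
  have hVc := hall V hV
  have hVf := fl_c_le_fix c hV hVc
  -- the subgroup of `V₁` on which `x` acts trivially mod `V`
  let N : Subgroup H :=
    { carrier := {u | u ∈ V₁ ∧ u⁻¹ * x u ∈ V}
      one_mem' := ⟨one_mem _, by rw [map_one, inv_one, one_mul]; exact one_mem _⟩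
      mul_mem' := by
        rintro a b ⟨ha, ha'⟩ ⟨hb, hb'⟩
        refine ⟨mul_mem ha hb, ?_⟩
        have hz := mem_center_iff.1 (hVc ha') b⁻¹
        have : (a * b)⁻¹ * x (a * b) = (a⁻¹ * x a) * (b⁻¹ * x b) := by
          rw [map_mul]
          calc (a * b)⁻¹ * (x a * x b) = (b⁻¹ * (a⁻¹ * x a)) * x b := by group
            _ = ((a⁻¹ * x a) * b⁻¹) * x b := by rw [hz]
            _ = (a⁻¹ * x a) * (b⁻¹ * x b) := by group
        rw [this]; exact mul_mem ha' hb'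
      inv_mem' := by
        rintro a ⟨ha, ha'⟩
        refine ⟨inv_mem ha, ?_⟩
        have hz := mem_center_iff.1 (hVc (inv_mem ha')) a
        have : a⁻¹⁻¹ * x a⁻¹ = (a⁻¹ * x a)⁻¹ := by
          rw [map_inv]
          calc a⁻¹⁻¹ * (x a)⁻¹ = (a * (a⁻¹ * x a)⁻¹) * a⁻¹ := by group
            _ = ((a⁻¹ * x a)⁻¹ * a) * a⁻¹ := by rw [hz]
            _ = (a⁻¹ * x a)⁻¹ := by group
        rw [this]; exact inv_mem ha' }
  have hNle : N ≤ V₁ := fun u hu => hu.1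
  have hVN : V ≤ N := by
    intro v hv
    refine ⟨d.lt.le hv, ?_⟩
    rw [mem_flFix.1 (hVf hv), inv_mul_cancel]; exact one_mem _
  have hNx : flInv x N := by
    rintro u ⟨hu, hu'⟩
    refine ⟨d.inv u hu, ?_⟩
    have := hV.2.1 _ hu'
    rwa [map_mul, map_inv] at this
  intro u hu hu'
  by_contra huV
  have hlt : V < N := lt_of_le_of_ne hVN (by
    intro h
    apply huV
    rw [h]; exact ⟨hu, hu'⟩)
  have hN1 := d.min N hNx hlt hNle
  -- so `V₁ ≤ Fix`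
  have h1 : V₁ ≤ flFix x := by
    intro w hw
    have hw' : w ∈ N := by rw [hN1]; exact hw
    obtain ⟨n, hn, hfix⟩ := fl_exists_fixed_in_coset c.pp c.xp V hV.2.1
      (fl_card_coprime V c.cop) w hw'.2
    rw [mem_flFix]
    rw [map_mul, mem_flFix.1 (hVf hn)] at hfix
    exact mul_right_cancel hfix
  -- so `V₁ ≤ Z(H) = V`
  have h2 : V₁ ≤ V := by
    intro w hw
    rw [← fl_c_center_eq c hall hV]
    exact fl_cb_central_of_fix hVf c.f2 (d.comm w hw) (h1 hw)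
  exact absurd (lt_of_lt_of_le d.lt h2) (lt_irrefl _)

/-- the finish: class 2 with `C_{H/V}(x) = 1` contradicts (POL) -/
theorem fl_c_finish (c : FlCtx H p x)
    (hall : ∀ V : Subgroup H, flMin x V → V ≤ center H) {V : Subgroup H} (hV : flMin x V)
    (hcl : ∀ a b : H, a * b * a⁻¹ * b⁻¹ ∈ V) (hfree : ∀ h : H, h⁻¹ * x h ∈ V → h ∈ V) :
    False := by
  have := c.fin
  have hZ := fl_c_center_eq c hall hV
  have hVc := hall V hV
  have hVf := fl_c_le_fix c hV hVc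
  obtain ⟨h, hh⟩ := fl_polar c.pp c.podd x c.xp (by rw [hZ]; exact hcl)
    (fun a b => mem_flFix.1 (hVf (hcl a b))) (by rw [hZ]; exact hfree) (fl_c_nonabelian c)
  apply hh
  have h1 : h⁻¹ * x h ∈ flD x h := by
    have := flD_gen_mem x h 1
    rwa [pow_one] at this
  have h2 : h⁻¹ * (x ^ 2) h ∈ flD x h := flD_gen_mem x h 2
  generalize h⁻¹ * x h = φ₁ at h1 ⊢
  generalize h⁻¹ * (x ^ 2) h = φ₂ at h2 ⊢
  have h4 : φ₁ * φ₂ * φ₁⁻¹ * φ₂⁻¹ ∈ flD x h :=
    (flD x h).mul_mem ((flD x h).mul_mem ((flD x h).mul_mem h1 h2) ((flD x h).inv_mem h1))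
      ((flD x h).inv_mem h2)
  have hw : φ₁ * φ₂ * φ₁⁻¹ * φ₂⁻¹ ∈ flK x := flD_inf_le_flK x h ⟨h4, hVf (hcl _ _)⟩
  have h3 := fl_c_eq_one_of_mem c hV hVc (hcl _ _) hw
  calc φ₁ * φ₂ = (φ₁ * φ₂ * φ₁⁻¹ * φ₂⁻¹) * (φ₂ * φ₁) := by group
    _ = φ₂ * φ₁ := by rw [h3, one_mul]

/-- (C3), case `V₁ = H` -/
theorem fl_c_case_top (c : FlCtx H p x)
    (hall : ∀ V : Subgroup H, flMin x V → V ≤ center H) {V : Subgroup H} (hV : flMin x V)
    {V₁ : Subgroup H} (d : FlV1 x V V₁) (htop : V₁ = ⊤) : False := by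
  apply fl_c_finish c hall hV
  · intro a b
    exact d.comm a (by rw [htop]; exact mem_top a) b
  · intro h hh
    exact fl_c_star c hall hV d h (by rw [htop]; exact mem_top h) hh

end Cfsg.Agent.Flav
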