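import Cfsg.Agent.Flav.Basic

/-!
# S3816: the standing hypotheses on a minimal counterexample

`FlCtx H p x` packages (F2), (F3), (F4) of `notes/S3816_proof_helper1.md` together with the
assumption that `H` is a counterexample; the case analysis derives `False` from it.
-/

set_option autoImplicit false

namespace Cfsg.Agent.Flav

variable {H : Type*} [Group H]

/-- `V` is a minimal `x`-invariant normal subgroup. -/
def flMin (x : MulAut H) (V : Subgroup H) : Prop :=
  V.Normal ∧ flInv x V ∧ V ≠ ⊥ ∧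
    ∀ N : Subgroup H, N.Normal → flInv x N → N ≤ V → N = ⊥ ∨ N = V

/-- The standing hypotheses on a minimal counterexample. -/
structure FlCtx (H : Type*) [Group H] (p : ℕ) (x : MulAut H) : Prop where
  fin : Finite H
  solv : Group.IsSolvable H
  pp : p.Prime
  podd : p ≠ 2
  cop : (Nat.card H).Coprime p
  xp : x ^ p = 1
  /-- (F2) `H = [H,P]` -/
  f2 : flC x ⊤ = ⊤
  /-- (F3) from the induction hypothesis for `H ⧸ N` -/
  f3 : ∀ N : Subgroup H, N.Normal → flInv x N → N ≠ ⊥ → flFix x ≤ flK x ⊔ N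
  /-- (F4) from the induction hypothesis for `L` -/
  f4 : ∀ L : Subgroup H, flInv x L → L ≠ ⊤ → flC x L ⊓ flFix x ≤ flK x
  /-- `H` is a counterexample -/
  cex : ¬ flFix x ≤ flK x

/-- (F3) in the form used most: `N ∩ Fix ≰ K`. -/
theorem FlCtx.not_le {p : ℕ} {x : MulAut H} (c : FlCtx H p x) {N : Subgroup H} (hN : N.Normal)
    (hNx : flInv x N) (hN1 : N ≠ ⊥) : ¬ N ⊓ flFix x ≤ flK x := by
  intro hle
  apply c.cex
  intro f hf
  have h1 := c.f3 N hN hNx hN1 hf
  have := hN
  rw [Subgroup.mem_sup_of_normal_right] at h1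
  obtain ⟨k, hk, n, hn, rfl⟩ := h1
  have hkf : k ∈ flFix x := flK_le_flFix x hk
  have hnf : n ∈ flFix x := by
    have : n = k⁻¹ * (k * n) := by group
    rw [this]
    exact (flFix x).mul_mem ((flFix x).inv_mem hkf) hf
  exact (flK x).mul_mem hk (hle ⟨hn, hnf⟩)

/-- every nontrivial invariant normal subgroup has a fixed point outside `K` -/
theorem FlCtx.exists_fix_not_mem {p : ℕ} {x : MulAut H} (c : FlCtx H p x) {N : Subgroup H}
    (hN : N.Normal) (hNx : flInv x N) (hN1 : N ≠ ⊥) : ∃ w ∈ N, w ∈ flFix x ∧ w ∉ flK x := by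
  by_contra hcon
  push Not at hcon
  exact c.not_le hN hNx hN1 (fun w hw => hcon w hw.1 hw.2)

end Cfsg.Agent.Flav
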