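import Cfsg.Agent.Flav.Ctx

/-!
# S3816: the induction frame

Strong induction on `Nat.card H` (over `Type u`): a counterexample of minimal order satisfies
(F2), (F3), (F4) of `notes/S3816_proof_helper1.md`, i.e. `FlCtx H p x` holds.
The transport of `flD`, `flC`, `flFix`, `flK` along an equivariant homomorphism is done once
(`fl_gmap_flD`, `fl_gmap_flC`) and used for `L.subtype` and `QuotientGroup.mk' N`.
-/

set_option autoImplicit false

namespace Cfsg.Agent.Flav

universe u

open Subgroup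

variable {H : Type*} [Group H]

/-! ### equivariant homomorphisms -/

theorem fl_gequiv_pow {H' : Type*} [Group H'] (φ : H →* H') (x : MulAut H) (x' : MulAut H')
    (hφ : ∀ h, φ (x h) = x' (φ h)) (i : ℕ) (h : H) : φ ((x ^ i) h) = (x' ^ i) (φ h) := by
  induction i generalizing h with
  | zero => simp
  | succ i ih => rw [pow_succ, pow_succ, MulAut.mul_apply, MulAut.mul_apply, ih, hφ]

theorem fl_gmap_flD {H' : Type*} [Group H'] (φ : H →* H') (x : MulAut H) (x' : MulAut H')
    (hφ : ∀ h, φ (x h) = x' (φ h)) (h : H) : (flD x h).map φ = flD x' (φ h) := by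
  unfold flD
  rw [MonoidHom.map_closure]
  congr 1
  ext c
  simp only [Set.mem_image, Set.mem_ofPred_eq]
  constructor
  · rintro ⟨_, ⟨i, rfl⟩, rfl⟩
    exact ⟨i, by rw [map_mul, map_inv, fl_gequiv_pow φ x x' hφ]⟩
  · rintro ⟨i, rfl⟩
    exact ⟨h⁻¹ * (x ^ i) h, ⟨i, rfl⟩, by rw [map_mul, map_inv, fl_gequiv_pow φ x x' hφ]⟩

theorem fl_gmap_flC {H' : Type*} [Group H'] (φ : H →* H') (x : MulAut H) (x' : MulAut H')
    (hφ : ∀ h, φ (x h) = x' (φ h)) (L : Subgroup H) : (flC x L).map φ = flC x' (L.map φ) := by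
  unfold flC
  rw [MonoidHom.map_closure]
  congr 1
  ext c
  simp only [Set.mem_image, Set.mem_ofPred_eq]
  constructor
  · rintro ⟨_, ⟨l, hl, i, rfl⟩, rfl⟩
    exact ⟨φ l, Subgroup.mem_map_of_mem φ hl, i,
      by rw [map_mul, map_inv, fl_gequiv_pow φ x x' hφ]⟩
  · rintro ⟨_, ⟨l, hl, rfl⟩, i, rfl⟩
    exact ⟨l⁻¹ * (x ^ i) l, ⟨l, hl, i, rfl⟩,
      by rw [map_mul, map_inv, fl_gequiv_pow φ x x' hφ]⟩

/-! ### restriction to an invariant subgroup -/

theorem fl_gres_exists [Finite H] (x : MulAut H) (L : Subgroup H) (hL : flInv x L) :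
    ∃ y : MulAut ↥L, ∀ l : ↥L, ((y l : ↥L) : H) = x (l : H) := by
  let f : ↥L →* ↥L := ((x : H →* H).comp L.subtype).codRestrict L (fun l => hL l l.2)
  have hf : ∀ l : ↥L, ((f l : ↥L) : H) = x (l : H) := fun l => rfl
  have hinj : Function.Injective f := by
    intro a b hab
    apply Subtype.ext
    apply x.injective
    rw [← hf a, ← hf b, hab]
  exact ⟨MulEquiv.ofBijective f ⟨hinj, Finite.surjective_of_injective hinj⟩, fun l => hf l⟩

theorem fl_gres_pow {p : ℕ} (x : MulAut H) (L : Subgroup H) (y : MulAut ↥L)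
    (hy : ∀ l : ↥L, ((y l : ↥L) : H) = x (l : H)) (hxp : x ^ p = 1) : y ^ p = 1 := by
  ext l
  have h1 := fl_gequiv_pow L.subtype y x hy p l
  rw [hxp] at h1
  simpa using h1

/-- (F4) from the induction hypothesis for `↥L`. -/
theorem fl_gsub (x : MulAut H) (L : Subgroup H) (y : MulAut ↥L)
    (hy : ∀ l : ↥L, ((y l : ↥L) : H) = x (l : H))
    (hIH : flC y ⊤ ⊓ flFix y ≤ flK y) : flC x L ⊓ flFix x ≤ flK x := by
  have hφ : ∀ l, L.subtype (y l) = x (L.subtype l) := hy
  have hmapC : (flC y ⊤).map L.subtype = flC x L := by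
    rw [fl_gmap_flC L.subtype y x hφ, ← MonoidHom.range_eq_map, Subgroup.range_subtype]
  have hK : (flK y).map L.subtype ≤ flK x := by
    unfold flK
    rw [Subgroup.map_iSup]
    apply iSup_le
    intro l
    refine le_trans ?_ (le_iSup (fun h => flD x h ⊓ flFix x) (L.subtype l))
    apply le_inf
    · exact (Subgroup.map_mono inf_le_left).trans (fl_gmap_flD L.subtype y x hφ l).le
    · rintro _ ⟨g, hg, rfl⟩
      rw [SetLike.mem_coe] at hg
      rw [mem_flFix, ← hφ, mem_flFix.1 hg.2]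
  rintro f ⟨hfC, hfF⟩
  rw [← hmapC] at hfC
  obtain ⟨g, hg, rfl⟩ := hfC
  have hgF : g ∈ flFix y := by
    rw [mem_flFix]
    apply Subtype.ext
    rw [hy]
    exact hfF
  exact hK (Subgroup.mem_map_of_mem _ (hIH ⟨hg, hgF⟩))

/-! ### quotient by an invariant normal subgroup -/

theorem fl_gquot_exists [Finite H] (x : MulAut H) (N : Subgroup H) [N.Normal] (hN : flInv x N) :
    ∃ y : MulAut (H ⧸ N), ∀ h : H, y (QuotientGroup.mk h) = QuotientGroup.mk (x h) := by
  let f : H ⧸ N →* H ⧸ N := QuotientGroup.map N N (x : H →* H) (fun n hn => hN n hn)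
  have hf : ∀ h : H, f (QuotientGroup.mk h) = QuotientGroup.mk (x h) := fun h => rfl
  have hsurj : Function.Surjective f := by
    intro q
    obtain ⟨h, rfl⟩ := QuotientGroup.mk_surjective q
    exact ⟨QuotientGroup.mk (x.symm h), by rw [hf, MulEquiv.apply_symm_apply]⟩
  exact ⟨MulEquiv.ofBijective f ⟨Finite.injective_iff_surjective.2 hsurj, hsurj⟩, fun h => hf h⟩

theorem fl_gquot_pow {p : ℕ} (x : MulAut H) (N : Subgroup H) [N.Normal] (y : MulAut (H ⧸ N))
    (hy : ∀ h : H, y (QuotientGroup.mk h) = QuotientGroup.mk (x h)) (hxp : x ^ p = 1) :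
    y ^ p = 1 := by
  ext q
  obtain ⟨h, rfl⟩ := QuotientGroup.mk_surjective q
  have h1 := fl_gequiv_pow (QuotientGroup.mk' N) x y (fun h => (hy h).symm) p h
  rw [hxp] at h1
  simpa using h1.symm

/-- (F3) from the induction hypothesis for `H ⧸ N`. -/
theorem fl_gquot [Finite H] {p : ℕ} (hp : p.Prime) (x : MulAut H) (hxp : x ^ p = 1)
    (hcop : (Nat.card H).Coprime p) (N : Subgroup H) [N.Normal] (hN : flInv x N)
    (y : MulAut (H ⧸ N)) (hy : ∀ h : H, y (QuotientGroup.mk h) = QuotientGroup.mk (x h))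
    (hIH : flC y ⊤ ⊓ flFix y ≤ flK y) : flC x ⊤ ⊓ flFix x ≤ flK x ⊔ N := by
  have hφ : ∀ h, (QuotientGroup.mk' N) (x h) = y ((QuotientGroup.mk' N) h) := fun h => (hy h).symm
  have hmapC : (flC x ⊤).map (QuotientGroup.mk' N) = flC y ⊤ := by
    rw [fl_gmap_flC (QuotientGroup.mk' N) x y hφ, ← MonoidHom.range_eq_map,
      QuotientGroup.range_mk']
  have hK : flK y ≤ (flK x).map (QuotientGroup.mk' N) := by
    unfold flK
    apply iSup_le
    intro q
    obtain ⟨h, rfl⟩ := QuotientGroup.mk'_surjective N q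
    rintro c ⟨hcD, hcF⟩
    rw [← fl_gmap_flD (QuotientGroup.mk' N) x y hφ] at hcD
    obtain ⟨d, hd, rfl⟩ := hcD
    rw [SetLike.mem_coe] at hd
    have hdN : d⁻¹ * x d ∈ N := by
      rw [← QuotientGroup.eq_one_iff]
      have h1 : ((d⁻¹ * x d : H) : H ⧸ N)
          = ((QuotientGroup.mk' N) d)⁻¹ * (QuotientGroup.mk' N) (x d) := by
        simp
      rw [h1, hφ, mem_flFix.1 hcF, inv_mul_cancel]
    have hdD : d⁻¹ * x d ∈ flD x h := mul_mem (inv_mem hd) (flD_inv x h d hd)
    obtain ⟨n, hn, hfix⟩ := fl_exists_fixed_in_coset hp hxp (flD x h ⊓ N)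
      (flInv_inf (flD_inv x h) hN) (fl_card_coprime _ hcop) d ⟨hdD, hdN⟩
    refine ⟨d * n, ?_, ?_⟩
    · exact (le_iSup (fun h => flD x h ⊓ flFix x) h) ⟨mul_mem hd hn.1, hfix⟩
    · rw [map_mul]
      have : (QuotientGroup.mk' N) n = 1 := (QuotientGroup.eq_one_iff n).2 hn.2
      rw [this, mul_one]
  rintro f ⟨hfC, hfF⟩
  have h1 : (QuotientGroup.mk' N) f ∈ flC y ⊤ := by
    rw [← hmapC]
    exact Subgroup.mem_map_of_mem _ hfC
  have h2 : (QuotientGroup.mk' N) f ∈ flFix y := by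
    rw [mem_flFix, ← hφ, mem_flFix.1 hfF]
  obtain ⟨k, hk, hkf⟩ := hK (hIH ⟨h1, h2⟩)
  have h3 : k⁻¹ * f ∈ N := by
    rw [← QuotientGroup.eq]
    exact hkf
  have h4 : f = k * (k⁻¹ * f) := by group
  rw [h4]
  exact Subgroup.mul_mem_sup hk h3

/-! ### the induction -/

theorem fl_gmain {p : ℕ}
    (hfalse : ∀ {H : Type u} [Group H] (x : MulAut H), FlCtx H p x → False)
    (hp : p.Prime) (hodd : p ≠ 2) :
    ∀ n : ℕ, ∀ (H : Type u) [Group H] [Finite H] [Group.IsSolvable H],
      Nat.card H = n → (Nat.card H).Coprime p → ∀ x : MulAut H, x ^ p = 1 →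
        flC x ⊤ ⊓ flFix x ≤ flK x := by
  intro n
  induction n using Nat.strong_induction_on with
  | _ n ih =>
    intro H _ _ _ hn hcop x hxp
    by_contra hcon
    -- (F4)
    have f4 : ∀ L : Subgroup H, flInv x L → L ≠ ⊤ → flC x L ⊓ flFix x ≤ flK x := by
      intro L hL hLtop
      obtain ⟨y, hy⟩ := fl_gres_exists x L hL
      have hyp : y ^ p = 1 := fl_gres_pow x L y hy hxp
      have hlt : Nat.card ↥L < n := by
        rw [← hn]
        exact lt_of_le_of_ne (Subgroup.card_le_card_group L)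
          (fun h => hLtop ((Subgroup.card_eq_iff_eq_top L).1 h))
      exact fl_gsub x L y hy (ih _ hlt ↥L rfl (fl_card_coprime L hcop) y hyp)
    -- (F2)
    have f2 : flC x ⊤ = ⊤ := by
      by_contra h2
      apply hcon
      have := f4 (flC x ⊤) (flC_inv (flInv_top x)) h2
      rwa [flC_flC hp hxp hcop (flInv_top x)] at this
    -- (F3)
    have f3 : ∀ N : Subgroup H, N.Normal → flInv x N → N ≠ ⊥ → flFix x ≤ flK x ⊔ N := by
      intro N hNn hN hNbot
      obtain ⟨y, hy⟩ := fl_gquot_exists x N hN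
      have hyp : y ^ p = 1 := fl_gquot_pow x N y hy hxp
      have hmul := Subgroup.card_eq_card_quotient_mul_card_subgroup N
      have h1 : 1 < Nat.card N := (Subgroup.one_lt_card_iff_ne_bot N).2 hNbot
      have h0 : 0 < Nat.card (H ⧸ N) := Nat.card_pos
      have hlt : Nat.card (H ⧸ N) < n := by
        rw [← hn, hmul]
        nlinarith
      have hcop' : (Nat.card (H ⧸ N)).Coprime p :=
        Nat.Coprime.coprime_dvd_left (Subgroup.card_quotient_dvd_card N) hcop
      have := fl_gquot hp x hxp hcop N hN y hy (ih _ hlt (H ⧸ N) rfl hcop' y hyp)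
      rw [f2, top_inf_eq] at this
      exact this
    refine hfalse x ⟨inferInstance, inferInstance, hp, hodd, hcop, hxp, f2, f3, f4, ?_⟩
    intro hle
    exact hcon (inf_le_right.trans hle)

/-- the theorem from the non-existence of a minimal counterexample context -/
theorem fl_induction {p : ℕ}
    (hfalse : ∀ {H : Type u} [Group H] (x : MulAut H), FlCtx H p x → False)
    {H : Type u} [Group H] [Finite H] [Group.IsSolvable H] (hp : p.Prime) (hodd : p ≠ 2)
    (hcop : (Nat.card H).Coprime p) (x : MulAut H) (hxp : x ^ p = 1) :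
    flC x ⊤ ⊓ flFix x ≤ flK x :=
  fl_gmain hfalse hp hodd _ H rfl hcop x hxp

/-- existence of a minimal invariant normal subgroup (for the final case split) -/
theorem fl_exists_min [Finite H] [Nontrivial H] (x : MulAut H) : ∃ V : Subgroup H, flMin x V := by
  have hwf : WellFoundedLT (Subgroup H) := inferInstance
  let S : Set (Subgroup H) := {N | N.Normal ∧ flInv x N ∧ N ≠ ⊥}
  have hS : S.Nonempty := ⟨⊤, inferInstance, flInv_top x, top_ne_bot⟩
  obtain ⟨V, hV, hmin⟩ := hwf.wf.has_min S hS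
  refine ⟨V, hV.1, hV.2.1, hV.2.2, fun N hN hNx hNV => ?_⟩
  by_cases h1 : N = ⊥
  · left; exact h1
  · right
    by_contra h2
    exact hmin N ⟨hN, hNx, h1⟩ (lt_of_le_of_ne hNV h2)

end Cfsg.Agent.Flav
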