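import Cfsg.Agent.Flav.Basic

/-!
# S3816, step (N8): the module lemma `fl_mod`

`x` of odd prime order `p` acts on `H` (`p ∤ |H|`); `M` is an abelian minimal `x`-invariant
subgroup with `C_M(x) = 1` acting faithfully on the abelian `x`-invariant subgroup `V`,
irreducibly under `⟨x, M⟩`.  Then `V = C_V(x) · C_V(x)^a` is impossible for `1 ≠ a ∈ M`.

Proof: either every `1 ≠ b ∈ M` is fixed point free on `V` (then `W, W^a, W^{a²}` are
independent, `W = C_V(x)`), or some minimal `M`-invariant `Y ≤ V` has `1 ≠ C_M(Y) ≠ M`, the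
`xⁱ(C_M(Y))` are pairwise distinct, `Y, xY, x²Y` are independent, so `|Y|³ ≤ |V|`, while
`|W| ≤ |Y|` (every fixed point is a norm) and `|V| ≤ |W|²`.
-/

set_option autoImplicit false

namespace Cfsg.Agent.Flav

open Subgroup

variable {H : Type*} [Group H]

/-! ### right conjugation -/

/-- right conjugation `v ↦ m⁻¹ v m` -/
def fl_mcj (m v : H) : H := m⁻¹ * v * m

theorem fl_mcj_mul (m u v : H) : fl_mcj m (u * v) = fl_mcj m u * fl_mcj m v := by
  unfold fl_mcj; group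

theorem fl_mcj_inv (m v : H) : fl_mcj m v⁻¹ = (fl_mcj m v)⁻¹ := by
  unfold fl_mcj; group

theorem fl_mcj_one (m : H) : fl_mcj m 1 = 1 := by
  unfold fl_mcj; group

theorem fl_mcj_mcj (m n v : H) : fl_mcj m (fl_mcj n v) = fl_mcj (n * m) v := by
  unfold fl_mcj; group

theorem fl_mcj_map (y : MulAut H) (m v : H) : y (fl_mcj m v) = fl_mcj (y m) (y v) := by
  unfold fl_mcj; rw [map_mul, map_mul, map_inv]

theorem fl_mcj_eq_self_iff (m v : H) : fl_mcj m v = v ↔ m * v = v * m := by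
  unfold fl_mcj
  constructor
  · intro h
    calc m * v = m * (m⁻¹ * v * m) := by rw [h]
      _ = v * m := by group
  · intro h
    calc m⁻¹ * v * m = m⁻¹ * (v * m) := by group
      _ = m⁻¹ * (m * v) := by rw [h]
      _ = v := by group

/-- `X` is normalised by `M` -/
def fl_mInv (M X : Subgroup H) : Prop := ∀ m ∈ M, ∀ v ∈ X, m⁻¹ * v * m ∈ X

theorem fl_mInv_mcj {M X : Subgroup H} (h : fl_mInv M X) {m v : H} (hm : m ∈ M) (hv : v ∈ X) :
    fl_mcj m v ∈ X := h m hm v hv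

/-- `C_X(b)` -/
def fl_mC (X : Subgroup H) (b : H) : Subgroup H := X ⊓ Subgroup.centralizer {b}

theorem fl_mem_mC {X : Subgroup H} {b v : H} : v ∈ fl_mC X b ↔ v ∈ X ∧ b * v = v * b := by
  unfold fl_mC
  rw [Subgroup.mem_inf, Subgroup.mem_centralizer_singleton_iff]
  constructor
  · rintro ⟨h1, h2⟩; exact ⟨h1, h2.symm⟩
  · rintro ⟨h1, h2⟩; exact ⟨h1, h2.symm⟩

theorem fl_mC_inv {M X : Subgroup H} (hMab : ∀ m ∈ M, ∀ n ∈ M, m * n = n * m)
    (hX : fl_mInv M X) {b : H} (hb : b ∈ M) : fl_mInv M (fl_mC X b) := by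
  intro m hm v hv
  rw [fl_mem_mC] at hv ⊢
  refine ⟨hX m hm v hv.1, ?_⟩
  have hbm : fl_mcj m b = b := by
    rw [fl_mcj_eq_self_iff]; exact hMab m hm b hb
  show b * fl_mcj m v = fl_mcj m v * b
  calc b * fl_mcj m v = fl_mcj m b * fl_mcj m v := by rw [hbm]
    _ = fl_mcj m (b * v) := (fl_mcj_mul m b v).symm
    _ = fl_mcj m (v * b) := by rw [hv.2]
    _ = fl_mcj m v * fl_mcj m b := fl_mcj_mul m v b
    _ = fl_mcj m v * b := by rw [hbm]

/-! ### powers of `x` -/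

theorem fl_m_inv_eq_pow {p : ℕ} (hp : p.Prime) {x : MulAut H} (hxp : x ^ p = 1) :
    x⁻¹ = x ^ (p - 1) := by
  have h1 : x ^ (p - 1) * x = 1 := by
    rw [← pow_succ, Nat.sub_add_cancel hp.one_lt.le, hxp]
  exact (eq_inv_of_mul_eq_one_left h1).symm

theorem fl_m_inv_inv {p : ℕ} (hp : p.Prime) {x : MulAut H} (hxp : x ^ p = 1) {L : Subgroup H}
    (hL : flInv x L) : flInv x⁻¹ L := by
  rw [fl_m_inv_eq_pow hp hxp]
  exact flInv_pow hL (p - 1)

theorem fl_m_pow_inv_mem {p : ℕ} (hp : p.Prime) {x : MulAut H} (hxp : x ^ p = 1)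
    {L : Subgroup H} (hL : flInv x L) (i : ℕ) {m : H} (hm : m ∈ L) : (x ^ i)⁻¹ m ∈ L := by
  rw [← inv_pow]
  exact flInv_pow (fl_m_inv_inv hp hxp hL) i m hm

theorem fl_m_pow_gen {p : ℕ} (hp : p.Prime) {x : MulAut H} (hxp : x ^ p = 1) {e : ℕ}
    (he : e.Coprime p) : ∃ k : ℕ, (x ^ e) ^ k = x := by
  obtain ⟨k, -, hk⟩ := Nat.exists_mul_mod_eq_one_of_coprime he hp.one_lt
  refine ⟨k, ?_⟩
  rw [← pow_mul, pow_eq_pow_mod (e * k) hxp, hk, pow_one]

theorem fl_m_two_coprime {p : ℕ} (hp : p.Prime) (hodd : p ≠ 2) : (2 : ℕ).Coprime p := by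
  rw [Nat.coprime_primes Nat.prime_two hp]
  exact hodd.symm

/-! ### the norm map -/

/-- `τ_n(v) = v · x(v) ⋯ x^{n-1}(v)` -/
def fl_mtau (x : MulAut H) : ℕ → H → H
  | 0, _ => 1
  | (n + 1), v => fl_mtau x n v * (x ^ n) v

theorem fl_mtau_zero (x : MulAut H) (v : H) : fl_mtau x 0 v = 1 := rfl

theorem fl_mtau_succ (x : MulAut H) (n : ℕ) (v : H) :
    fl_mtau x (n + 1) v = fl_mtau x n v * (x ^ n) v := rfl

theorem fl_mtau_mem {x : MulAut H} {V : Subgroup H} (hVx : flInv x V) {v : H} (hv : v ∈ V)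
    (n : ℕ) : fl_mtau x n v ∈ V := by
  induction n with
  | zero => rw [fl_mtau_zero]; exact one_mem _
  | succ n ih => rw [fl_mtau_succ]; exact mul_mem ih (flInv_pow hVx n v hv)

theorem fl_mtau_mul {x : MulAut H} {V : Subgroup H}
    (hVab : ∀ u ∈ V, ∀ v ∈ V, u * v = v * u) (hVx : flInv x V) {u v : H} (hu : u ∈ V)
    (hv : v ∈ V) (n : ℕ) : fl_mtau x n (u * v) = fl_mtau x n u * fl_mtau x n v := by
  induction n with
  | zero => simp [fl_mtau_zero]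
  | succ n ih =>
    rw [fl_mtau_succ, fl_mtau_succ, fl_mtau_succ, ih, map_mul]
    have hc : Commute (fl_mtau x n v) ((x ^ n) u) :=
      hVab _ (fl_mtau_mem hVx hv n) _ (flInv_pow hVx n u hu)
    exact hc.mul_mul_mul_comm _ _

theorem fl_mtau_map (x : MulAut H) (n : ℕ) (v : H) : fl_mtau x n (x v) = x (fl_mtau x n v) := by
  induction n with
  | zero => simp [fl_mtau_zero]
  | succ n ih =>
    rw [fl_mtau_succ, fl_mtau_succ, ih, map_mul, ← MulAut.mul_apply, ← MulAut.mul_apply,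
      ← pow_succ, pow_succ']

theorem fl_mtau_succ' (x : MulAut H) (n : ℕ) (v : H) :
    fl_mtau x (n + 1) v = v * fl_mtau x n (x v) := by
  induction n with
  | zero => simp [fl_mtau_succ, fl_mtau_zero]
  | succ n ih =>
    rw [fl_mtau_succ, ih, fl_mtau_succ x n (x v), mul_assoc, ← MulAut.mul_apply, ← pow_succ]

theorem fl_mtau_shift {p : ℕ} {x : MulAut H} (hxp : x ^ p = 1) {V : Subgroup H}
    (hVab : ∀ u ∈ V, ∀ v ∈ V, u * v = v * u) (hVx : flInv x V) {v : H} (hv : v ∈ V) :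
    fl_mtau x p (x v) = fl_mtau x p v := by
  have h1 : fl_mtau x (p + 1) v = fl_mtau x p v * v := by
    rw [fl_mtau_succ, hxp, MulAut.one_apply]
  have h2 := fl_mtau_succ' x p v
  have h3 : v * fl_mtau x p (x v) = v * fl_mtau x p v := by
    rw [← h2, h1]
    exact hVab _ (fl_mtau_mem hVx hv p) _ hv
  exact mul_left_cancel h3

theorem fl_mtau_fix {p : ℕ} {x : MulAut H} (hxp : x ^ p = 1) {V : Subgroup H}
    (hVab : ∀ u ∈ V, ∀ v ∈ V, u * v = v * u) (hVx : flInv x V) {v : H} (hv : v ∈ V) :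
    x (fl_mtau x p v) = fl_mtau x p v := by
  rw [← fl_mtau_map, fl_mtau_shift hxp hVab hVx hv]

theorem fl_mtau_pow_shift {p : ℕ} {x : MulAut H} (hxp : x ^ p = 1) {V : Subgroup H}
    (hVab : ∀ u ∈ V, ∀ v ∈ V, u * v = v * u) (hVx : flInv x V) {v : H} (hv : v ∈ V) (i : ℕ) :
    fl_mtau x p ((x ^ i) v) = fl_mtau x p v := by
  induction i with
  | zero => simp
  | succ i ih =>
    rw [pow_succ', MulAut.mul_apply, fl_mtau_shift hxp hVab hVx (flInv_pow hVx i v hv), ih]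

theorem fl_mtau_of_fix {x : MulAut H} {w : H} (hw : w ∈ flFix x) (n : ℕ) :
    fl_mtau x n w = w ^ n := by
  induction n with
  | zero => simp [fl_mtau_zero]
  | succ n ih => rw [fl_mtau_succ, ih, flFix_pow hw n, pow_succ]

theorem fl_mtau_one (x : MulAut H) (n : ℕ) : fl_mtau x n 1 = 1 := by
  rw [fl_mtau_of_fix (one_mem _), one_pow]

theorem fl_mtau_inv {x : MulAut H} {V : Subgroup H}
    (hVab : ∀ u ∈ V, ∀ v ∈ V, u * v = v * u) (hVx : flInv x V) {v : H} (hv : v ∈ V) (n : ℕ) :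
    fl_mtau x n v⁻¹ = (fl_mtau x n v)⁻¹ := by
  have h := fl_mtau_mul hVab hVx hv (V.inv_mem hv) n
  rw [mul_inv_cancel, fl_mtau_one] at h
  exact (inv_eq_of_mul_eq_one_right h.symm).symm

/-! ### minimal `M`-invariant subgroups -/

theorem fl_m_exists_min [Finite H] (M X : Subgroup H) (hX1 : X ≠ ⊥) (hXM : fl_mInv M X) :
    ∃ Y : Subgroup H, Y ≤ X ∧ Y ≠ ⊥ ∧ fl_mInv M Y ∧
      ∀ Z : Subgroup H, Z ≤ Y → fl_mInv M Z → Z = ⊥ ∨ Z = Y := by
  let S : Set (Subgroup H) := {Y | Y ≤ X ∧ Y ≠ ⊥ ∧ fl_mInv M Y}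
  have hne : S.Nonempty := ⟨X, le_refl X, hX1, hXM⟩
  have hwf : WellFounded ((· < ·) : Subgroup H → Subgroup H → Prop) := wellFounded_lt
  refine ⟨hwf.min S hne, (hwf.min_mem S hne).1, (hwf.min_mem S hne).2.1,
    (hwf.min_mem S hne).2.2, ?_⟩
  intro Z hZ hZM
  by_cases hZ1 : Z = ⊥
  · exact Or.inl hZ1
  · right
    have hZS : Z ∈ S := ⟨hZ.trans (hwf.min_mem S hne).1, hZ1, hZM⟩
    have h1 : ¬ Z < hwf.min S hne := hwf.not_lt_min S hZS
    exact eq_of_le_of_not_lt hZ h1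

/-! ### case A: every nontrivial element of `M` is fixed point free on `V` -/

theorem fl_m_caseA {p : ℕ} (hp : p.Prime) (hodd : p ≠ 2) (x : MulAut H) (hxp : x ^ p = 1)
    (V M : Subgroup H)
    (hVab : ∀ u ∈ V, ∀ v ∈ V, u * v = v * u) (hV1 : V ≠ ⊥)
    (hVM : fl_mInv M V)
    (hMab : ∀ m ∈ M, ∀ n ∈ M, m * n = n * m) (hMx : flInv x M)
    (hMfix : M ⊓ flFix x = ⊥)
    (a : H) (haM : a ∈ M) (ha1 : a ≠ 1)
    (hprod : ∀ v ∈ V, ∃ w₁ ∈ V ⊓ flFix x, ∃ w₂ ∈ V ⊓ flFix x, v = w₁ * (a⁻¹ * w₂ * a))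
    (hfpf : ∀ b ∈ M, b ≠ 1 → ∀ v ∈ V, b * v = v * b → v = 1) : False := by
  -- distinct elements of `M` act differently on every nontrivial element
  have hne : ∀ m ∈ M, ∀ n ∈ M, m ≠ n → ∀ u ∈ V, fl_mcj m u = fl_mcj n u → u = 1 := by
    intro m hm n hn hmn u hu h
    have hb : m * n⁻¹ ≠ 1 := fun h1 => hmn (mul_inv_eq_one.1 h1)
    have h' : n⁻¹ * u * n = m⁻¹ * u * m := h.symm
    have hc : m * n⁻¹ * u = u * (m * n⁻¹) := by
      calc m * n⁻¹ * u = m * (n⁻¹ * u * n) * n⁻¹ := by group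
        _ = m * (m⁻¹ * u * m) * n⁻¹ := by rw [h']
        _ = u * (m * n⁻¹) := by group
    exact hfpf _ (M.mul_mem hm (M.inv_mem hn)) hb u hu hc
  -- the three elements `a, x a, x² a`
  have hxa : x a ∈ M := hMx a haM
  have hx2a : (x ^ 2) a ∈ M := flInv_pow hMx 2 a haM
  have h01 : x a ≠ a := by
    intro h
    have : a ∈ M ⊓ flFix x := ⟨haM, h⟩
    rw [hMfix, Subgroup.mem_bot] at this
    exact ha1 this
  have h02 : (x ^ 2) a ≠ a := by
    intro h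
    obtain ⟨k, hk⟩ := fl_m_pow_gen hp hxp (fl_m_two_coprime hp hodd)
    have h1 : a ∈ flFix (x ^ 2) := h
    have h2 := flFix_pow h1 k
    rw [hk] at h2
    exact h01 h2
  have h12 : x a ≠ (x ^ 2) a := by
    intro h
    rw [pow_two, MulAut.mul_apply] at h
    exact h01 (x.injective h).symm
  -- the kernel lemma
  have hK : ∀ w0 ∈ V ⊓ flFix x, ∀ w1 ∈ V ⊓ flFix x, ∀ w2 ∈ V ⊓ flFix x,
      w0 * fl_mcj a w1 * fl_mcj a (fl_mcj a w2) = 1 → w2 = 1 := by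
    intro w0 hw0 w1 hw1 w2 hw2 hE
    -- the relation transported by an automorphism fixing `w0, w1, w2`
    have hEy : ∀ y : MulAut H, y w0 = w0 → y w1 = w1 → y w2 = w2 →
        w0 * fl_mcj (y a) w1 * fl_mcj (y a) (fl_mcj (y a) w2) = 1 := by
      intro y h0 h1 h2
      have := congrArg y hE
      rw [map_one, map_mul, map_mul, fl_mcj_map, fl_mcj_map, fl_mcj_map, h0, h1, h2] at this
      exact this
    have hG : ∀ b ∈ M, b ≠ a →
        w0 * fl_mcj b w1 * fl_mcj b (fl_mcj b w2) = 1 →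
        w1 * fl_mcj b w2 * fl_mcj a w2 = 1 := by
      intro b hb hba hEb
      have hbw2 : fl_mcj b w2 ∈ V := fl_mInv_mcj hVM hb hw2.1
      have haw2 : fl_mcj a w2 ∈ V := fl_mInv_mcj hVM haM hw2.1
      have hu : w1 * fl_mcj b w2 * fl_mcj a w2 ∈ V :=
        V.mul_mem (V.mul_mem hw1.1 hbw2) haw2
      apply hne b hb a haM hba _ hu
      have hP : fl_mcj b w1 * fl_mcj b (fl_mcj b w2) = fl_mcj a w1 * fl_mcj a (fl_mcj a w2) := by
        apply mul_left_cancel (a := w0)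
        rw [← mul_assoc, ← mul_assoc, hEb, hE]
      have hsw : fl_mcj a (fl_mcj b w2) = fl_mcj b (fl_mcj a w2) := by
        rw [fl_mcj_mcj, fl_mcj_mcj, hMab b hb a haM]
      have hcomm : fl_mcj a (fl_mcj b w2) * fl_mcj a (fl_mcj a w2)
          = fl_mcj a (fl_mcj a w2) * fl_mcj a (fl_mcj b w2) :=
        hVab _ (fl_mInv_mcj hVM haM hbw2) _ (fl_mInv_mcj hVM haM haw2)
      calc fl_mcj b (w1 * fl_mcj b w2 * fl_mcj a w2)
          = fl_mcj b w1 * fl_mcj b (fl_mcj b w2) * fl_mcj b (fl_mcj a w2) := by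
            rw [fl_mcj_mul, fl_mcj_mul]
        _ = fl_mcj a w1 * fl_mcj a (fl_mcj a w2) * fl_mcj a (fl_mcj b w2) := by
            rw [hP, hsw]
        _ = fl_mcj a w1 * (fl_mcj a (fl_mcj b w2) * fl_mcj a (fl_mcj a w2)) := by
            rw [hcomm, mul_assoc]
        _ = fl_mcj a (w1 * fl_mcj b w2 * fl_mcj a w2) := by
            rw [fl_mcj_mul, fl_mcj_mul, mul_assoc]
    have hf : ∀ w ∈ V ⊓ flFix x, ∀ i : ℕ, (x ^ i) w = w := fun w hw i => flFix_pow hw.2 i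
    have hE1 := hEy x hw0.2 hw1.2 hw2.2
    have hE2 := hEy (x ^ 2) (hf w0 hw0 2) (hf w1 hw1 2) (hf w2 hw2 2)
    have hu1 := hG (x a) hxa h01 hE1
    have hu2 := hG ((x ^ 2) a) hx2a h02 hE2
    have h3 : fl_mcj (x a) w2 = fl_mcj ((x ^ 2) a) w2 := by
      have h4 : w1 * fl_mcj (x a) w2 * fl_mcj a w2 = w1 * fl_mcj ((x ^ 2) a) w2 * fl_mcj a w2 := by
        rw [hu1, hu2]
      exact mul_left_cancel (mul_right_cancel h4)
    exact hne (x a) hxa ((x ^ 2) a) hx2a h12 w2 hw2.1 h3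
  -- `W ≠ 1`
  obtain ⟨w, hw, hw1⟩ : ∃ w ∈ V ⊓ flFix x, w ≠ 1 := by
    by_contra hcon
    push Not at hcon
    apply hV1
    rw [Subgroup.eq_bot_iff_forall]
    intro v hv
    obtain ⟨w₁, hw₁, w₂, hw₂, rfl⟩ := hprod v hv
    rw [hcon w₁ hw₁, hcon w₂ hw₂]
    group
  -- the contradiction
  have hv : fl_mcj a (fl_mcj a w) ∈ V := fl_mInv_mcj hVM haM (fl_mInv_mcj hVM haM hw.1)
  obtain ⟨w₁, hw₁, w₂, hw₂, hdec⟩ := hprod _ hv
  have hwinv : w⁻¹ ∈ V ⊓ flFix x := inv_mem hw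
  have hrel : w₁ * fl_mcj a w₂ * fl_mcj a (fl_mcj a w⁻¹) = 1 := by
    rw [fl_mcj_inv, fl_mcj_inv]
    have : w₁ * fl_mcj a w₂ = fl_mcj a (fl_mcj a w) := hdec.symm
    rw [this, mul_inv_cancel]
  have := hK w₁ hw₁ w₂ hw₂ w⁻¹ hwinv hrel
  exact hw1 (inv_eq_one.1 this)

/-! ### case B: a minimal `M`-invariant subgroup with nontrivial kernel -/

/-- rearrangement in a commutative group -/
theorem fl_m_comm3_aux {G : Type*} [CommGroup G] {a b c a' b' c' : G}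
    (h : a * b * c = a' * b' * c') : (a'⁻¹ * a) * (b'⁻¹ * b) * (c'⁻¹ * c) = 1 := by
  have h1 : (a'⁻¹ * a) * (b'⁻¹ * b) * (c'⁻¹ * c) = (a' * b' * c')⁻¹ * (a * b * c) := by
    simp only [mul_inv_rev]
    ac_rfl
  rw [h1, h, inv_mul_cancel]

theorem fl_m_comm3 {V : Subgroup H} (hVab : ∀ u ∈ V, ∀ v ∈ V, u * v = v * u)
    {a b c a' b' c' : H} (ha : a ∈ V) (hb : b ∈ V) (hc : c ∈ V) (ha' : a' ∈ V) (hb' : b' ∈ V)
    (hc' : c' ∈ V) (h : a * b * c = a' * b' * c') :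
    (a'⁻¹ * a) * (b'⁻¹ * b) * (c'⁻¹ * c) = 1 := by
  let _ : CommGroup V :=
    { (inferInstance : Group V) with
      mul_comm := fun u v => Subtype.ext (hVab u u.2 v v.2) }
  have h' : (⟨a, ha⟩ : V) * ⟨b, hb⟩ * ⟨c, hc⟩ = ⟨a', ha'⟩ * ⟨b', hb'⟩ * ⟨c', hc'⟩ :=
    Subtype.ext h
  have := congrArg Subtype.val (fl_m_comm3_aux h')
  exact this

theorem fl_m_caseB [Finite H] {p : ℕ} (hp : p.Prime) (hodd : p ≠ 2) (x : MulAut H)
    (hxp : x ^ p = 1) (hcop : (Nat.card H).Coprime p) (V M : Subgroup H)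
    (hVab : ∀ u ∈ V, ∀ v ∈ V, u * v = v * u) (hVx : flInv x V)
    (hMx : flInv x M)
    (hMmin : ∀ B : Subgroup H, B ≤ M → flInv x B → B = ⊥ ∨ B = M)
    (hCVM : ∀ v ∈ V, (∀ m ∈ M, m * v = v * m) → v = 1)
    (hirr : ∀ X : Subgroup H, X ≤ V → flInv x X →
      (∀ m ∈ M, ∀ v ∈ X, m⁻¹ * v * m ∈ X) → X = ⊥ ∨ X = V)
    (a : H)
    (hprod : ∀ v ∈ V, ∃ w₁ ∈ V ⊓ flFix x, ∃ w₂ ∈ V ⊓ flFix x, v = w₁ * (a⁻¹ * w₂ * a))
    (Y : Subgroup H) (hYV : Y ≤ V) (hY1 : Y ≠ ⊥) (hYM : fl_mInv M Y)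
    (hYmin : ∀ Z : Subgroup H, Z ≤ Y → fl_mInv M Z → Z = ⊥ ∨ Z = Y)
    (hMab : ∀ m ∈ M, ∀ n ∈ M, m * n = n * m)
    (b : H) (hbM : b ∈ M) (hb1 : b ≠ 1) (hbY : ∀ y ∈ Y, b * y = y * b) : False := by
  -- the kernel of `M` on `Y`
  set M0 : Subgroup H := M ⊓ Subgroup.centralizer (Y : Set H) with hM0
  have hmemM0 : ∀ m : H, m ∈ M0 ↔ m ∈ M ∧ ∀ y ∈ Y, m * y = y * m := by
    intro m
    rw [hM0, Subgroup.mem_inf, Subgroup.mem_centralizer_iff]
    constructor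
    · rintro ⟨h1, h2⟩; exact ⟨h1, fun y hy => (h2 y hy).symm⟩
    · rintro ⟨h1, h2⟩; exact ⟨h1, fun y hy => (h2 y hy).symm⟩
  have hM0le : M0 ≤ M := inf_le_left
  have hM0bot : M0 ≠ ⊥ := by
    intro h
    have hb0 : b ∈ M0 := (hmemM0 b).2 ⟨hbM, hbY⟩
    rw [h, Subgroup.mem_bot] at hb0
    exact hb1 hb0
  obtain ⟨y₀, hy₀Y, hy₀1⟩ : ∃ y ∈ Y, y ≠ 1 := by
    by_contra hcon
    push Not at hcon
    exact hY1 ((Subgroup.eq_bot_iff_forall Y).2 hcon)
  have hM0M : M0 ≠ M := by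
    intro h
    apply hy₀1
    apply hCVM y₀ (hYV hy₀Y)
    intro m hm
    have : m ∈ M0 := by rw [h]; exact hm
    exact ((hmemM0 m).1 this).2 y₀ hy₀Y
  have hM0x : ¬ flInv x M0 := by
    intro h
    rcases hMmin M0 hM0le h with h1 | h1
    · exact hM0bot h1
    · exact hM0M h1
  have hnotinv : ∀ e : ℕ, e.Coprime p → ∃ c ∈ M0, (x ^ e) c ∉ M0 := by
    intro e he
    by_contra hcon
    push Not at hcon
    obtain ⟨k, hk⟩ := fl_m_pow_gen hp hxp he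
    have h1 : flInv (x ^ e) M0 := hcon
    have h2 := flInv_pow h1 k
    rw [hk] at h2
    exact hM0x h2
  -- (S): outside the kernel, fixed point free
  have hS : ∀ m ∈ M, m ∉ M0 → ∀ y ∈ Y, m * y = y * m → y = 1 := by
    intro m hm hm0 y hy hmy
    rcases hYmin (fl_mC Y m) inf_le_left (fl_mC_inv hMab hYM hm) with h | h
    · have : y ∈ fl_mC Y m := fl_mem_mC.2 ⟨hy, hmy⟩
      rw [h, Subgroup.mem_bot] at this
      exact this
    · exfalso
      apply hm0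
      rw [hmemM0]
      refine ⟨hm, fun y' hy' => ?_⟩
      have : y' ∈ fl_mC Y m := by rw [h]; exact hy'
      exact (fl_mem_mC.1 this).2
  -- `Y ∩ x^e Y = 1`
  have hI : ∀ e : ℕ, e.Coprime p → ∀ y ∈ Y, (x ^ e) y ∈ Y → y = 1 := by
    intro e he y hy hxy
    obtain ⟨c, hc, hcn⟩ := hnotinv e he
    have hcM : (x ^ e) c ∈ M := flInv_pow hMx e c (hM0le hc)
    have hcy : c * y = y * c := ((hmemM0 c).1 hc).2 y hy
    have hcomm : (x ^ e) c * (x ^ e) y = (x ^ e) y * (x ^ e) c := by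
      rw [← map_mul, ← map_mul, hcy]
    have h1 := hS _ hcM hcn _ hxy hcomm
    exact (MulEquiv.map_eq_one_iff (x ^ e)).1 h1
  have hI1 : ∀ y ∈ Y, x y ∈ Y → y = 1 := by
    intro y hy hxy
    apply hI 1 (Nat.coprime_one_left p) y hy
    rwa [pow_one]
  have hI2 : ∀ y ∈ Y, (x ^ 2) y ∈ Y → y = 1 := hI 2 (fl_m_two_coprime hp hodd)
  -- `M`-invariance of the translates
  have hconj : ∀ (i : ℕ) (m : H), m ∈ M → ∀ v : H,
      fl_mcj m ((x ^ i) v) = (x ^ i) (fl_mcj ((x ^ i)⁻¹ m) v) := by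
    intro i m _ v
    rw [fl_mcj_map, MulAut.apply_inv_self]
  -- independence of `Y, xY, x²Y`
  have hind : ∀ y0 ∈ Y, ∀ y1 ∈ Y, ∀ y2 ∈ Y, y0 * x y1 * (x ^ 2) y2 = 1 →
      y0 = 1 ∧ y1 = 1 ∧ y2 = 1 := by
    intro y0 hy0 y1 hy1 y2 hy2 hrel
    obtain ⟨c, hc, hcn⟩ := hnotinv 1 (Nat.coprime_one_left p)
    rw [pow_one] at hcn
    have hmM : x c ∈ M := hMx c (hM0le hc)
    have hcy1 : c * y1 = y1 * c := ((hmemM0 c).1 hc).2 y1 hy1
    have hfix1 : fl_mcj (x c) (x y1) = x y1 := by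
      rw [fl_mcj_eq_self_iff, ← map_mul, ← map_mul, hcy1]
    set m' : H := (x ^ 2)⁻¹ (x c) with hm'
    have hm'M : m' ∈ M := fl_m_pow_inv_mem hp hxp hMx 2 hmM
    have hC : fl_mcj (x c) ((x ^ 2) y2) = (x ^ 2) (fl_mcj m' y2) := hconj 2 (x c) hmM y2
    have hy2' : fl_mcj m' y2 ∈ Y := fl_mInv_mcj hYM hm'M hy2
    have hy0' : fl_mcj (x c) y0 ∈ Y := fl_mInv_mcj hYM hmM hy0
    -- conjugate the relation
    have hrel' : fl_mcj (x c) y0 * x y1 * (x ^ 2) (fl_mcj m' y2) = 1 := by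
      have := congrArg (fl_mcj (x c)) hrel
      rw [fl_mcj_one, fl_mcj_mul, fl_mcj_mul, hfix1, hC] at this
      exact this
    -- all elements lie in `V`
    have hx1V : x y1 ∈ V := hVx _ (hYV hy1)
    have hx2V : (x ^ 2) y2 ∈ V := flInv_pow hVx 2 _ (hYV hy2)
    have hx2V' : (x ^ 2) (fl_mcj m' y2) ∈ V := flInv_pow hVx 2 _ (hYV hy2')
    have h3 := fl_m_comm3 hVab (hYV hy0') hx1V hx2V' (hYV hy0) hx1V hx2V (hrel'.trans hrel.symm)
    rw [inv_mul_cancel, mul_one] at h3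
    -- `h3 : y0⁻¹ * y0' * ((x²y2)⁻¹ * x²(y2')) = 1`
    have h4 : (x ^ 2) (y2⁻¹ * fl_mcj m' y2) = (y0⁻¹ * fl_mcj (x c) y0)⁻¹ := by
      rw [map_mul, map_inv]
      exact (eq_inv_of_mul_eq_one_right h3)
    have h5 : y2⁻¹ * fl_mcj m' y2 = 1 := by
      apply hI2 _ (Y.mul_mem (Y.inv_mem hy2) hy2')
      rw [h4]
      exact Y.inv_mem (Y.mul_mem (Y.inv_mem hy0) hy0')
    rw [h5, map_one] at h4
    have h6 : fl_mcj (x c) y0 = y0 := by
      have : y0⁻¹ * fl_mcj (x c) y0 = 1 := by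
        rw [← inv_inv (y0⁻¹ * fl_mcj (x c) y0), ← h4, inv_one]
      exact (inv_mul_eq_one.1 this).symm
    have hy01 : y0 = 1 := hS _ hmM hcn y0 hy0 ((fl_mcj_eq_self_iff _ _).1 h6)
    rw [hy01, one_mul, pow_two, MulAut.mul_apply, ← map_mul] at hrel
    have h7 : y1 * x y2 = 1 := (MulEquiv.map_eq_one_iff x).1 hrel
    have hy21 : y2 = 1 := by
      apply hI1 y2 hy2
      have : x y2 = y1⁻¹ := (eq_inv_of_mul_eq_one_right h7)
      rw [this]
      exact Y.inv_mem hy1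
    rw [hy21, map_one, mul_one] at h7
    exact ⟨hy01, h7, hy21⟩
  -- `|Y|³ ≤ |V|`
  have hcard1 : Nat.card Y * (Nat.card Y * Nat.card Y) ≤ Nat.card V := by
    have hfm : ∀ t : Y × Y × Y, (t.1 : H) * x t.2.1 * (x ^ 2) t.2.2 ∈ V := fun t =>
      V.mul_mem (V.mul_mem (hYV t.1.2) (hVx _ (hYV t.2.1.2)))
        (flInv_pow hVx 2 _ (hYV t.2.2.2))
    let f : Y × Y × Y → V := fun t => ⟨(t.1 : H) * x t.2.1 * (x ^ 2) t.2.2, hfm t⟩
    have hf : Function.Injective f := by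
      rintro ⟨y0, y1, y2⟩ ⟨z0, z1, z2⟩ hyz
      have h1 : (y0 : H) * x y1 * (x ^ 2) y2 = (z0 : H) * x z1 * (x ^ 2) z2 :=
        congrArg Subtype.val hyz
      have h2 := fl_m_comm3 hVab (hYV y0.2) (hVx _ (hYV y1.2)) (flInv_pow hVx 2 _ (hYV y2.2))
        (hYV z0.2) (hVx _ (hYV z1.2)) (flInv_pow hVx 2 _ (hYV z2.2)) h1
      rw [← map_inv, ← map_inv, ← map_mul, ← map_mul] at h2
      obtain ⟨e0, e1, e2⟩ := hind _ (Y.mul_mem (Y.inv_mem z0.2) y0.2) _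
        (Y.mul_mem (Y.inv_mem z1.2) y1.2) _ (Y.mul_mem (Y.inv_mem z2.2) y2.2) h2
      have g0 : y0 = z0 := Subtype.ext (inv_mul_eq_one.1 e0).symm
      have g1 : y1 = z1 := Subtype.ext (inv_mul_eq_one.1 e1).symm
      have g2 : y2 = z2 := Subtype.ext (inv_mul_eq_one.1 e2).symm
      rw [g0, g1, g2]
    have := Nat.card_le_card_of_injective f hf
    rwa [Nat.card_prod, Nat.card_prod] at this
  -- the translates of `Y` generate `V`
  set T : Subgroup H := Subgroup.closure {v : H | ∃ i : ℕ, ∃ y ∈ Y, v = (x ^ i) y} with hT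
  have hTV : T ≤ V := by
    rw [hT, Subgroup.closure_le]
    rintro _ ⟨i, y, hy, rfl⟩
    exact flInv_pow hVx i y (hYV hy)
  have hTx : flInv x T := by
    intro l hl
    induction hl using Subgroup.closure_induction with
    | mem c hc =>
      obtain ⟨i, y, hy, rfl⟩ := hc
      apply Subgroup.subset_closure
      refine ⟨i + 1, y, hy, ?_⟩
      rw [pow_succ', MulAut.mul_apply]
    | one => rw [map_one]; exact one_mem _
    | mul a b _ _ ha hb => rw [map_mul]; exact mul_mem ha hb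
    | inv a _ ha => rw [map_inv]; exact inv_mem ha
  have hTM : ∀ m ∈ M, ∀ v ∈ T, m⁻¹ * v * m ∈ T := by
    intro m hm v hv
    show fl_mcj m v ∈ T
    induction hv using Subgroup.closure_induction with
    | mem c hc =>
      obtain ⟨i, y, hy, rfl⟩ := hc
      rw [hconj i m hm y]
      apply Subgroup.subset_closure
      exact ⟨i, _, fl_mInv_mcj hYM (fl_m_pow_inv_mem hp hxp hMx i hm) hy, rfl⟩
    | one => rw [fl_mcj_one]; exact one_mem _
    | mul a b _ _ ha hb => rw [fl_mcj_mul]; exact mul_mem ha hb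
    | inv a _ ha => rw [fl_mcj_inv]; exact inv_mem ha
  have hYT : Y ≤ T := by
    intro y hy
    apply Subgroup.subset_closure
    exact ⟨0, y, hy, by simp⟩
  have hTeq : T = V := by
    rcases hirr T hTV hTx hTM with h | h
    · exfalso
      apply hY1
      rw [eq_bot_iff, ← h]
      exact hYT
    · exact h
  -- norms
  have hnorm : ∀ v ∈ T, v ∈ V ∧ ∃ y ∈ Y, fl_mtau x p v = fl_mtau x p y := by
    intro v hv
    induction hv using Subgroup.closure_induction with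
    | mem c hc =>
      obtain ⟨i, y, hy, rfl⟩ := hc
      exact ⟨flInv_pow hVx i y (hYV hy), y, hy, fl_mtau_pow_shift hxp hVab hVx (hYV hy) i⟩
    | one => exact ⟨one_mem _, 1, one_mem _, rfl⟩
    | mul a b _ _ ha hb =>
      obtain ⟨haV, ya, hya, hta⟩ := ha
      obtain ⟨hbV, yb, hyb, htb⟩ := hb
      refine ⟨V.mul_mem haV hbV, ya * yb, Y.mul_mem hya hyb, ?_⟩
      rw [fl_mtau_mul hVab hVx haV hbV, fl_mtau_mul hVab hVx (hYV hya) (hYV hyb), hta, htb]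
    | inv a _ ha =>
      obtain ⟨haV, ya, hya, hta⟩ := ha
      refine ⟨V.inv_mem haV, ya⁻¹, Y.inv_mem hya, ?_⟩
      rw [fl_mtau_inv hVab hVx haV, fl_mtau_inv hVab hVx (hYV hya), hta]
  have hcW : (Nat.card (V ⊓ flFix x : Subgroup H)).Coprime p := fl_card_coprime _ hcop
  have hWnorm : ∀ w : (V ⊓ flFix x : Subgroup H), ∃ y : Y, fl_mtau x p (y : H) = (w : H) := by
    intro w
    set u := (powCoprime hcW).symm w with hu
    have hup : u ^ p = w := (powCoprime hcW).apply_symm_apply w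
    have hup' : (u : H) ^ p = (w : H) := by
      rw [← hup]; rfl
    have huT : (u : H) ∈ T := by rw [hTeq]; exact u.2.1
    obtain ⟨_, y, hy, hty⟩ := hnorm _ huT
    refine ⟨⟨y, hy⟩, ?_⟩
    show fl_mtau x p y = (w : H)
    rw [← hty, fl_mtau_of_fix u.2.2, hup']
  have hcard2 : Nat.card (V ⊓ flFix x : Subgroup H) ≤ Nat.card Y := by
    choose g hg using hWnorm
    apply Nat.card_le_card_of_injective g
    intro w w' hww
    apply Subtype.ext
    rw [← hg w, ← hg w', hww]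
  -- `|V| ≤ |W|²`
  have hcard3 : Nat.card V ≤
      Nat.card (V ⊓ flFix x : Subgroup H) * Nat.card (V ⊓ flFix x : Subgroup H) := by
    have hdec : ∀ v : V, ∃ t : (V ⊓ flFix x : Subgroup H) × (V ⊓ flFix x : Subgroup H),
        (v : H) = (t.1 : H) * (a⁻¹ * (t.2 : H) * a) := by
      intro v
      obtain ⟨w₁, hw₁, w₂, hw₂, h⟩ := hprod v v.2
      exact ⟨(⟨w₁, hw₁⟩, ⟨w₂, hw₂⟩), h⟩
    choose g hg using hdec
    have := Nat.card_le_card_of_injective g (by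
      intro v v' hvv
      apply Subtype.ext
      rw [hg v, hg v', hvv])
    rwa [Nat.card_prod] at this
  -- arithmetic
  have hY2 : 1 < Nat.card Y := (Subgroup.one_lt_card_iff_ne_bot Y).2 hY1
  have h1 : Nat.card Y * (Nat.card Y * Nat.card Y) ≤ Nat.card Y * Nat.card Y :=
    hcard1.trans (hcard3.trans (Nat.mul_le_mul hcard2 hcard2))
  have h2 : Nat.card Y * (Nat.card Y * Nat.card Y) ≤ 1 * (Nat.card Y * Nat.card Y) := by
    rwa [one_mul]
  have h3 : 0 < Nat.card Y * Nat.card Y := by positivity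
  have h4 := Nat.le_of_mul_le_mul_right h2 h3
  omega

/-! ### the module lemma -/

/-- (N8) the module lemma. -/
theorem fl_mod [Finite H] {p : ℕ} (hp : p.Prime) (hodd : p ≠ 2) (x : MulAut H)
    (hxp : x ^ p = 1) (hcop : (Nat.card H).Coprime p) (V M : Subgroup H)
    (hVab : ∀ u ∈ V, ∀ v ∈ V, u * v = v * u) (hVx : flInv x V) (hV1 : V ≠ ⊥)
    (hVM : ∀ m ∈ M, ∀ v ∈ V, m⁻¹ * v * m ∈ V)
    (hMab : ∀ m ∈ M, ∀ n ∈ M, m * n = n * m) (hMx : flInv x M)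
    (hMmin : ∀ B : Subgroup H, B ≤ M → flInv x B → B = ⊥ ∨ B = M)
    (hMfix : M ⊓ flFix x = ⊥)
    (hfaith : ∀ m ∈ M, (∀ v ∈ V, m * v = v * m) → m = 1)
    (hirr : ∀ X : Subgroup H, X ≤ V → flInv x X →
      (∀ m ∈ M, ∀ v ∈ X, m⁻¹ * v * m ∈ X) → X = ⊥ ∨ X = V)
    (a : H) (haM : a ∈ M) (ha1 : a ≠ 1)
    (hprod : ∀ v ∈ V, ∃ w₁ ∈ V ⊓ flFix x, ∃ w₂ ∈ V ⊓ flFix x, v = w₁ * (a⁻¹ * w₂ * a)) :
    False := by
  -- `C_V(M) = 1`
  have hCVM : ∀ v ∈ V, (∀ m ∈ M, m * v = v * m) → v = 1 := by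
    set C : Subgroup H := V ⊓ Subgroup.centralizer (M : Set H) with hC
    have hmemC : ∀ v : H, v ∈ C ↔ v ∈ V ∧ ∀ m ∈ M, m * v = v * m := by
      intro v
      rw [hC, Subgroup.mem_inf, Subgroup.mem_centralizer_iff]
      exact Iff.rfl
    have hCx : flInv x C := by
      intro v hv
      rw [hmemC] at hv ⊢
      refine ⟨hVx v hv.1, fun m hm => ?_⟩
      have hm' : x⁻¹ m ∈ M := fl_m_inv_inv hp hxp hMx m hm
      have h1 := hv.2 _ hm'
      have h2 := congrArg x h1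
      rwa [map_mul, map_mul, MulAut.apply_inv_self] at h2
    have hCM : ∀ m ∈ M, ∀ v ∈ C, m⁻¹ * v * m ∈ C := by
      intro m hm v hv
      have h1 : m⁻¹ * v * m = v := (fl_mcj_eq_self_iff m v).2 (((hmemC v).1 hv).2 m hm)
      rw [h1]; exact hv
    rcases hirr C inf_le_left hCx hCM with h | h
    · intro v hv hvm
      have : v ∈ C := (hmemC v).2 ⟨hv, hvm⟩
      rw [h, Subgroup.mem_bot] at this
      exact this
    · exfalso
      apply ha1
      apply hfaith a haM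
      intro v hv
      have : v ∈ C := by rw [h]; exact hv
      exact ((hmemC v).1 this).2 a haM
  by_cases hfpf : ∀ b ∈ M, b ≠ 1 → ∀ v ∈ V, b * v = v * b → v = 1
  · exact fl_m_caseA hp hodd x hxp V M hVab hV1 hVM hMab hMx hMfix a haM ha1 hprod hfpf
  · push Not at hfpf
    obtain ⟨b, hbM, hb1, v, hvV, hbv, hv1⟩ := hfpf
    have hX1 : fl_mC V b ≠ ⊥ := by
      intro h
      have : v ∈ fl_mC V b := fl_mem_mC.2 ⟨hvV, hbv⟩
      rw [h, Subgroup.mem_bot] at this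
      exact hv1 this
    obtain ⟨Y, hYX, hY1, hYM, hYmin⟩ :=
      fl_m_exists_min M (fl_mC V b) hX1 (fl_mC_inv hMab hVM hbM)
    have hYV : Y ≤ V := hYX.trans inf_le_left
    have hbY : ∀ y ∈ Y, b * y = y * b := fun y hy => (fl_mem_mC.1 (hYX hy)).2
    exact fl_m_caseB hp hodd x hxp hcop V M hVab hVx hMx hMmin hCVM hirr a hprod Y hYV hY1
      hYM hYmin hMab b hbM hb1 hbY

end Cfsg.Agent.Flav
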