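import Cfsg.Agent.Flav.Ctx

/-!
# S3816: tools for the non-central case — invariance lemmas, the trace map `flTau`,
commutators with a normal subgroup.
-/

set_option autoImplicit false

namespace Cfsg.Agent.Flav

open Subgroup

variable {H : Type*} [Group H]

theorem flInv_sup {x : MulAut H} {A B : Subgroup H} (hA : flInv x A) (hB : flInv x B) :
    flInv x (A ⊔ B) := by
  have h1 : A ⊔ B ≤ (A ⊔ B).comap x.toMonoidHom := by
    apply sup_le
    · intro a ha; exact (le_sup_left : A ≤ A ⊔ B) (hA a ha)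
    · intro b hb; exact (le_sup_right : B ≤ A ⊔ B) (hB b hb)
  exact fun l hl => h1 hl

theorem flInv_closure {x : MulAut H} {S : Set H} (hS : ∀ s ∈ S, x s ∈ closure S) :
    flInv x (closure S) := by
  have h1 : closure S ≤ (closure S).comap x.toMonoidHom := by
    rw [closure_le]
    intro s hs
    exact hS s hs
  exact fun l hl => h1 hl

/-- an invariant subgroup is mapped ONTO itself (`x` has finite order) -/
theorem flInv_surj {x : MulAut H} {p : ℕ} (hp : 0 < p) (hxp : x ^ p = 1) {L : Subgroup H}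
    (hL : flInv x L) {l : H} (hl : l ∈ L) : ∃ l' ∈ L, x l' = l := by
  refine ⟨(x ^ (p - 1)) l, flInv_pow hL _ l hl, ?_⟩
  rw [← MulAut.mul_apply, ← pow_succ', Nat.sub_add_cancel hp, hxp, MulAut.one_apply]

/-- the centraliser of an invariant subgroup is invariant -/
theorem flInv_centralizer {x : MulAut H} {p : ℕ} (hp : 0 < p) (hxp : x ^ p = 1) {L : Subgroup H}
    (hL : flInv x L) : flInv x (centralizer (L : Set H)) := by
  intro c hc
  rw [mem_centralizer_iff] at hc ⊢
  intro l hl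
  obtain ⟨l', hl', rfl⟩ := flInv_surj hp hxp hL hl
  rw [← map_mul, ← map_mul, hc l' hl']

theorem flInv_center (x : MulAut H) : flInv x (center H) := by
  intro z hz
  rw [mem_center_iff] at hz ⊢
  intro g
  have h1 := hz (x.symm g)
  have h2 := congrArg x h1
  rwa [map_mul, map_mul, MulEquiv.apply_symm_apply] at h2

/-! ### commutators with a normal subgroup -/

/-- If `[v,d] ∈ S` for all `v ∈ V` and `d` in a set `T`, the same holds for `d ∈ ⟨T⟩`. -/
theorem fl_comm_closure (V S : Subgroup H) (hVn : V.Normal) (T : Set H)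
    (hT : ∀ d ∈ T, ∀ v ∈ V, v⁻¹ * d⁻¹ * v * d ∈ S) :
    ∀ h ∈ closure T, ∀ v ∈ V, v⁻¹ * h⁻¹ * v * h ∈ S := by
  intro h hh
  induction hh using closure_induction with
  | mem d hd => exact hT d hd
  | one => intro v _; simp
  | mul a b _ _ ha hb =>
    intro v hv
    have hv' : a⁻¹ * v * a ∈ V := by
      have := hVn.conj_mem v hv a⁻¹
      simpa using this
    have h1 : v⁻¹ * (a * b)⁻¹ * v * (a * b)
        = (v⁻¹ * a⁻¹ * v * a) * ((a⁻¹ * v * a)⁻¹ * b⁻¹ * (a⁻¹ * v * a) * b) := by group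
    rw [h1]
    exact S.mul_mem (ha v hv) (hb _ hv')
  | inv a _ ha =>
    intro v hv
    have hv' : a * v * a⁻¹ ∈ V := hVn.conj_mem v hv a
    have h1 : v⁻¹ * (a⁻¹)⁻¹ * v * a⁻¹ = ((a * v * a⁻¹)⁻¹ * a⁻¹ * (a * v * a⁻¹) * a)⁻¹ := by group
    rw [h1]
    exact S.inv_mem (ha _ hv')

/-! ### the trace map -/

/-- `flTau x n v = v · x(v) ⋯ x^{n-1}(v)` -/
def flTau (x : MulAut H) : ℕ → H → H
  | 0, _ => 1
  | n + 1, v => flTau x n v * (x ^ n) v

theorem flTau_zero (x : MulAut H) (v : H) : flTau x 0 v = 1 := rfl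

theorem flTau_succ (x : MulAut H) (n : ℕ) (v : H) :
    flTau x (n + 1) v = flTau x n v * (x ^ n) v := rfl

theorem flTau_mem {x : MulAut H} {X : Subgroup H} (hX : flInv x X) {v : H} (hv : v ∈ X) (n : ℕ) :
    flTau x n v ∈ X := by
  induction n with
  | zero => exact X.one_mem
  | succ n ih => exact X.mul_mem ih (flInv_pow hX n v hv)

theorem flTau_one (x : MulAut H) (n : ℕ) : flTau x n 1 = 1 := by
  induction n with
  | zero => rfl
  | succ n ih => rw [flTau_succ, ih, map_one, one_mul]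

theorem flTau_mul {x : MulAut H} {V : Subgroup H} (hVab : ∀ u ∈ V, ∀ v ∈ V, u * v = v * u)
    (hVx : flInv x V) {u v : H} (hu : u ∈ V) (hv : v ∈ V) (n : ℕ) :
    flTau x n (u * v) = flTau x n u * flTau x n v := by
  induction n with
  | zero => simp [flTau_zero]
  | succ n ih =>
    rw [flTau_succ, flTau_succ, flTau_succ, ih, map_mul]
    have h1 := hVab _ (flInv_pow hVx n u hu) _ (flTau_mem hVx hv n)
    calc flTau x n u * flTau x n v * ((x ^ n) u * (x ^ n) v)
        = flTau x n u * (flTau x n v * (x ^ n) u) * (x ^ n) v := by group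
      _ = flTau x n u * ((x ^ n) u * flTau x n v) * (x ^ n) v := by rw [h1]
      _ = flTau x n u * (x ^ n) u * (flTau x n v * (x ^ n) v) := by group

theorem flTau_inv {x : MulAut H} {V : Subgroup H} (hVab : ∀ u ∈ V, ∀ v ∈ V, u * v = v * u)
    (hVx : flInv x V) {v : H} (hv : v ∈ V) (n : ℕ) :
    flTau x n v⁻¹ = (flTau x n v)⁻¹ := by
  have h1 := flTau_mul hVab hVx hv (V.inv_mem hv) n
  rw [mul_inv_cancel, flTau_one] at h1
  exact (inv_eq_of_mul_eq_one_right h1.symm).symm

theorem flTau_map (x : MulAut H) (n : ℕ) (v : H) : x (flTau x n v) = flTau x n (x v) := by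
  induction n with
  | zero => simp [flTau_zero]
  | succ n ih =>
    rw [flTau_succ, flTau_succ, map_mul, ih, ← MulAut.mul_apply, ← MulAut.mul_apply, ← pow_succ',
      pow_succ]

theorem flTau_shift (x : MulAut H) (n : ℕ) (v : H) :
    v * flTau x n (x v) = flTau x n v * (x ^ n) v := by
  induction n with
  | zero => simp [flTau_zero]
  | succ n ih =>
    rw [flTau_succ, ← mul_assoc, ih, flTau_succ, ← MulAut.mul_apply, ← pow_succ]

/-- the trace of an element of an abelian invariant subgroup is fixed -/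
theorem flTau_fix {x : MulAut H} {p : ℕ} (hxp : x ^ p = 1) {V : Subgroup H}
    (hVab : ∀ u ∈ V, ∀ v ∈ V, u * v = v * u) (hVx : flInv x V) {v : H} (hv : v ∈ V) :
    flTau x p v ∈ flFix x := by
  rw [mem_flFix, flTau_map]
  have h1 := flTau_shift x p v
  rw [hxp, MulAut.one_apply, hVab _ (flTau_mem hVx hv p) _ hv] at h1
  exact mul_left_cancel h1

theorem flTau_of_fix {x : MulAut H} {w : H} (hw : w ∈ flFix x) (n : ℕ) : flTau x n w = w ^ n := by
  induction n with
  | zero => simp [flTau_zero]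
  | succ n ih => rw [flTau_succ, ih, flFix_pow hw, pow_succ]

theorem flTau_conj_fix {x : MulAut H} {c : H} (hc : c ∈ flFix x) (v : H) (n : ℕ) :
    flTau x n (c⁻¹ * v * c) = c⁻¹ * flTau x n v * c := by
  induction n with
  | zero => simp [flTau_zero]
  | succ n ih =>
    rw [flTau_succ, flTau_succ, ih, map_mul, map_mul, map_inv, flFix_pow hc]
    group

/-- every fixed point of an invariant subgroup is a trace -/
theorem flTau_surj [Finite H] {x : MulAut H} {p : ℕ} (hcop : (Nat.card H).Coprime p)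
    {X : Subgroup H} {w : H} (hwX : w ∈ X) (hw : w ∈ flFix x) :
    ∃ u ∈ X, u ∈ flFix x ∧ flTau x p u = w := by
  have hord : p.Coprime (orderOf w) :=
    (Nat.Coprime.coprime_dvd_left (orderOf_dvd_natCard w) hcop).symm
  obtain ⟨m, hm⟩ := exists_pow_eq_self_of_coprime hord
  refine ⟨w ^ m, X.pow_mem hwX m, (flFix x).pow_mem hw m, ?_⟩
  rw [flTau_of_fix ((flFix x).pow_mem hw m), ← pow_mul, mul_comm, pow_mul]
  exact hm

/-- the elements of `V` whose trace lies in `K` -/
def flTauSub (x : MulAut H) (p : ℕ) (V K : Subgroup H)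
    (hVab : ∀ u ∈ V, ∀ v ∈ V, u * v = v * u) (hVx : flInv x V) : Subgroup H where
  carrier := {u | u ∈ V ∧ flTau x p u ∈ K}
  one_mem' := ⟨V.one_mem, by rw [flTau_one]; exact K.one_mem⟩
  mul_mem' := by
    rintro a b ⟨ha, ha'⟩ ⟨hb, hb'⟩
    exact ⟨V.mul_mem ha hb, by rw [flTau_mul hVab hVx ha hb]; exact K.mul_mem ha' hb'⟩
  inv_mem' := by
    rintro a ⟨ha, ha'⟩
    exact ⟨V.inv_mem ha, by rw [flTau_inv hVab hVx ha]; exact K.inv_mem ha'⟩

theorem mem_flTauSub {x : MulAut H} {p : ℕ} {V K : Subgroup H}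
    {hVab : ∀ u ∈ V, ∀ v ∈ V, u * v = v * u} {hVx : flInv x V} {u : H} :
    u ∈ flTauSub x p V K hVab hVx ↔ u ∈ V ∧ flTau x p u ∈ K := Iff.rfl

end Cfsg.Agent.Flav
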