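import Cfsg.Agent.Flav.NonCentralB
import Cfsg.Agent.Flav.ModLemma

/-!
# S3816: the non-central case
A minimal `x`-invariant normal subgroup of a minimal counterexample is central.
-/

set_option autoImplicit false

namespace Cfsg.Agent.Flav

open Subgroup

variable {H : Type*} [Group H] {p : ℕ} {x : MulAut H}

/-- The non-central case is impossible. -/
theorem fl_noncentral (c : FlCtx H p x) (V : Subgroup H) (hV : flMin x V)
    (hnc : ¬ V ≤ Subgroup.center H) : False := by
  haveI := c.fin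
  have hVab := fl_n_abelian c hV
  obtain ⟨g, hg1⟩ := fl_n1 c hV hnc
  have hg2 := fl_n2 c hV g hg1
  have hfaith := fl_n3 c hV g hg1
  obtain ⟨hM1, hMab, hMmin, hMfix⟩ := fl_n6 c hV hnc g hg1 hg2
  obtain ⟨a, haM, ha1⟩ : ∃ a ∈ flD x g, a ≠ 1 := by
    by_contra hcon
    push Not at hcon
    apply hM1
    rw [eq_bot_iff]
    intro d hd
    rw [Subgroup.mem_bot]
    exact hcon d hd
  have hVn := hV.1
  refine fl_mod c.pp c.podd x c.xp c.cop V (flD x g) hVab hV.2.1 hV.2.2.1 ?_ hMab (flD_inv x g)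
    hMmin hMfix hfaith ?_ a haM ha1 (fun v hv => fl_n7 c hV hnc g hg1 hg2 a haM ha1 v hv)
  · intro m _ v hv
    have h := hVn.conj_mem v hv m⁻¹
    rwa [inv_inv] at h
  · intro X hXV hXx hXM
    have hXn : X.Normal := by
      apply fl_n_normal_of hVn hVab hg1 hXV
      intro d hd t ht
      have h := hXM d⁻¹ ((flD x g).inv_mem hd) t ht
      rwa [inv_inv] at h
    exact hV.2.2.2 X hXn hXx hXV

end Cfsg.Agent.Flav
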