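import Cfsg.Agent.Flav.NCBasic

/-!
# S3816, non-central case, part A: steps (N1)–(N5) of `notes/S3816_proof_helper1.md`
-/

set_option autoImplicit false

namespace Cfsg.Agent.Flav

open Subgroup
open scoped commutatorElement

variable {H : Type*} [Group H] {p : ℕ} {x : MulAut H}

/-- In a solvable group a nontrivial subgroup is not perfect. -/
theorem fl_n_comm_ne (hs : Group.IsSolvable H) {A : Subgroup H} (hA : A ≠ ⊥) : ⁅A, A⁆ ≠ A := by
  intro heq
  obtain ⟨n, hn⟩ := (Group.isSolvable_def H).1 hs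
  have h1 : ∀ k, A ≤ derivedSeries H k := by
    intro k
    induction k with
    | zero => exact le_top
    | succ k ih =>
      rw [derivedSeries_succ]
      calc A = ⁅A, A⁆ := heq.symm
        _ ≤ ⁅derivedSeries H k, derivedSeries H k⁆ := commutator_mono ih ih
  apply hA
  rw [eq_bot_iff, ← hn]
  exact h1 n

theorem flInv_commutator {A B : Subgroup H} (hA : flInv x A) (hB : flInv x B) :
    flInv x ⁅A, B⁆ := by
  rw [Subgroup.commutator_def]
  apply flInv_closure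
  rintro _ ⟨a, ha, b, hb, rfl⟩
  apply Subgroup.subset_closure
  exact ⟨x a, hA a ha, x b, hB b hb, (map_commutatorElement (f := x.toMonoidHom) a b).symm⟩

/-- a minimal invariant normal subgroup is abelian -/
theorem fl_n_abelian (c : FlCtx H p x) {V : Subgroup H} (hV : flMin x V) :
    ∀ u ∈ V, ∀ v ∈ V, u * v = v * u := by
  obtain ⟨hVn, hVx, hV1, hVmin⟩ := hV
  haveI := hVn
  have h1 : ⁅V, V⁆ = ⊥ := by
    rcases hVmin ⁅V, V⁆ inferInstance (flInv_commutator hVx hVx) (commutator_le_left V V) with h | h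
    · exact h
    · exact absurd h (fl_n_comm_ne c.solv hV1)
  intro u hu v hv
  have h2 : ⁅u, v⁆ ∈ ⁅V, V⁆ := commutator_mem_commutator hu hv
  rw [h1, mem_bot, commutatorElement_eq_one_iff_mul_comm] at h2
  exact h2

/-- every element of `V ⊔ D = ⊤` is `v * d` -/
theorem fl_n_decomp {V D : Subgroup H} (hVn : V.Normal) (h : V ⊔ D = ⊤) (g : H) :
    ∃ v ∈ V, ∃ d ∈ D, g = v * d := by
  haveI := hVn
  have hg : g ∈ V ⊔ D := h ▸ mem_top g
  rw [mem_sup_of_normal_left] at hg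
  obtain ⟨v, hv, d, hd, rfl⟩ := hg
  exact ⟨v, hv, d, hd, rfl⟩

/-- a subgroup of the abelian `V` normalised by `D` is normal when `V ⊔ D = ⊤` -/
theorem fl_n_normal_of {V D X : Subgroup H} (hVn : V.Normal)
    (hVab : ∀ u ∈ V, ∀ v ∈ V, u * v = v * u) (h : V ⊔ D = ⊤) (hXV : X ≤ V)
    (hXD : ∀ d ∈ D, ∀ t ∈ X, d * t * d⁻¹ ∈ X) : X.Normal := by
  constructor
  intro t ht g
  obtain ⟨v, hv, d, hd, rfl⟩ := fl_n_decomp hVn h g
  have h1 : d * t * d⁻¹ ∈ X := hXD d hd t ht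
  have h2 : v * d * t * (v * d)⁻¹ = v * (d * t * d⁻¹) * v⁻¹ := by group
  rw [h2, hVab v hv _ (hXV h1), mul_assoc, mul_inv_cancel, mul_one]
  exact h1

/-- the key trace estimate: if `V ⊔ B ≠ ⊤` for an invariant `B = [B,P]`, the traces of the
commutators `[v,d]`, `d ∈ B`, lie in `K`. -/
theorem fl_n_tau_comm (c : FlCtx H p x) {V : Subgroup H} (hV : flMin x V)
    (hVab : ∀ u ∈ V, ∀ v ∈ V, u * v = v * u) {B : Subgroup H} (hBx : flInv x B)
    (hBB : flC x B = B) (hne : V ⊔ B ≠ ⊤) {d : H} (hd : d ∈ B) {v : H} (hv : v ∈ V) :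
    v⁻¹ * d⁻¹ * v * d ∈ flTauSub x p V (flK x) hVab hV.2.1 := by
  obtain ⟨hVn, hVx, hV1, hVmin⟩ := hV
  set L := V ⊔ B with hL
  have hLx : flInv x L := flInv_sup hVx hBx
  have hK := c.f4 L hLx hne
  set S : Subgroup H := closure {e : H | ∃ v ∈ V, ∃ d ∈ B, e = v⁻¹ * d⁻¹ * v * d} with hS
  have hSV : S ≤ V := by
    rw [hS, closure_le]
    rintro _ ⟨v, hv, d, hd, rfl⟩
    have h1 : d⁻¹ * v * d ∈ V := by
      have := hVn.conj_mem v hv d⁻¹
      simpa using this
    have h2 : v⁻¹ * d⁻¹ * v * d = v⁻¹ * (d⁻¹ * v * d) := by group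
    rw [h2]
    exact V.mul_mem (V.inv_mem hv) h1
  have hBC : B ≤ flC x L := by
    rw [← hBB]
    exact flC_mono x le_sup_right
  have hSC : S ≤ flC x L := by
    rw [hS, closure_le]
    rintro _ ⟨v, hv, d, hd, rfl⟩
    have hvL : v ∈ L := (le_sup_left : V ≤ L) hv
    have h1 : v⁻¹ * d⁻¹ * v ∈ flC x L := flC_conj_mem hvL (inv_mem (hBC hd))
    exact mul_mem h1 (hBC hd)
  have hSx : flInv x S := by
    rw [hS]
    apply flInv_closure
    rintro _ ⟨v, hv, d, hd, rfl⟩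
    apply Subgroup.subset_closure
    refine ⟨x v, hVx v hv, x d, hBx d hd, ?_⟩
    simp only [map_mul, map_inv]
  have hmem : v⁻¹ * d⁻¹ * v * d ∈ S := Subgroup.subset_closure ⟨v, hv, d, hd, rfl⟩
  refine ⟨hSV hmem, ?_⟩
  apply hK
  exact ⟨hSC (flTau_mem hSx hmem p), flTau_fix c.xp hVab hVx (hSV hmem)⟩

/-- if all traces of `V` lie in `K` we have a contradiction -/
theorem fl_n_contra (c : FlCtx H p x) {V : Subgroup H} (hV : flMin x V)
    (hVab : ∀ u ∈ V, ∀ v ∈ V, u * v = v * u)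
    (h : V ≤ flTauSub x p V (flK x) hVab hV.2.1) : False := by
  haveI := c.fin
  apply c.not_le hV.1 hV.2.1 hV.2.2.1
  rintro w ⟨hwV, hwF⟩
  obtain ⟨u, huV, _, rfl⟩ := flTau_surj c.cop hwV hwF
  exact (h huV).2

/-- (N1) -/
theorem fl_n1 (c : FlCtx H p x) {V : Subgroup H} (hV : flMin x V)
    (hnc : ¬ V ≤ center H) : ∃ g : H, V ⊔ flD x g = ⊤ := by
  haveI := c.fin
  by_contra hcon
  push Not at hcon
  have hVab := fl_n_abelian c hV
  have hVn := hV.1
  haveI := hVn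
  set T := flTauSub x p V (flK x) hVab hV.2.1 with hT
  have hkey : ∀ h ∈ closure {d : H | ∃ g, d ∈ flD x g}, ∀ v ∈ V, v⁻¹ * h⁻¹ * v * h ∈ T := by
    apply fl_comm_closure V T hVn
    rintro d ⟨g, hd⟩ v hv
    exact fl_n_tau_comm c hV hVab (flD_inv x g) (flC_flD c.pp c.xp c.cop g) (hcon g) hd hv
  have htop : closure {d : H | ∃ g, d ∈ flD x g} = ⊤ := by
    rw [eq_top_iff, ← c.f2, flC_le_iff]
    intro l _ i
    exact Subgroup.subset_closure ⟨l, flD_gen_mem x l i⟩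
  have hcomm : ⁅V, (⊤ : Subgroup H)⁆ ≤ T := by
    rw [commutator_le]
    intro v hv h _
    have h1 := hkey h⁻¹ (htop ▸ mem_top _) v⁻¹ (V.inv_mem hv)
    have h2 : (v⁻¹)⁻¹ * (h⁻¹)⁻¹ * v⁻¹ * h⁻¹ = ⁅v, h⁆ := by
      rw [commutatorElement_def]; group
    rwa [h2] at h1
  have hne : ⁅V, (⊤ : Subgroup H)⁆ ≠ ⊥ := by
    intro h0
    rw [commutator_eq_bot_iff_le_centralizer, coe_top, centralizer_univ] at h0
    exact hnc h0
  rcases hV.2.2.2 ⁅V, (⊤ : Subgroup H)⁆ inferInstance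
    (flInv_commutator hV.2.1 (flInv_top x)) (commutator_le_left V ⊤) with h | h
  · exact hne h
  · exact fl_n_contra c hV hVab ((le_of_eq h.symm).trans hcomm)

/-- (N2) -/
theorem fl_n2 (c : FlCtx H p x) {V : Subgroup H} (hV : flMin x V) (g : H)
    (hg : V ⊔ flD x g = ⊤) : V ⊓ flD x g = ⊥ := by
  have hVab := fl_n_abelian c hV
  have hIn : (V ⊓ flD x g).Normal := by
    apply fl_n_normal_of hV.1 hVab hg inf_le_left
    intro d hd t ht
    exact Subgroup.mem_inf.2 ⟨hV.1.conj_mem t (Subgroup.mem_inf.1 ht).1 d,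
      (flD x g).mul_mem ((flD x g).mul_mem hd (Subgroup.mem_inf.1 ht).2) ((flD x g).inv_mem hd)⟩
  rcases hV.2.2.2 _ hIn (flInv_inf hV.2.1 (flD_inv x g)) inf_le_left with h | h
  · exact h
  · exfalso
    have h1 : V ≤ flD x g := by
      rw [← h]; exact inf_le_right
    have h2 : flD x g = ⊤ := by
      rw [← hg]; exact (sup_eq_right.2 h1).symm
    apply c.cex
    intro f hf
    exact flD_inf_le_flK x g (Subgroup.mem_inf.2 ⟨h2 ▸ mem_top f, hf⟩)

/-- (N3) `D(g)` acts faithfully on `V`. -/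
theorem fl_n3 (c : FlCtx H p x) {V : Subgroup H} (hV : flMin x V) (g : H)
    (hg1 : V ⊔ flD x g = ⊤) :
    ∀ m ∈ flD x g, (∀ v ∈ V, m * v = v * m) → m = 1 := by
  have hVab := fl_n_abelian c hV
  set N := flD x g ⊓ centralizer (V : Set H) with hN
  have hNn : N.Normal := by
    constructor
    intro n hn h
    obtain ⟨v, hv, d, hd, rfl⟩ := fl_n_decomp hV.1 hg1 h
    have h1 : d * n * d⁻¹ ∈ centralizer (V : Set H) := by
      rw [mem_centralizer_iff]
      intro u hu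
      have hu' : d⁻¹ * u * d ∈ V := by
        have := hV.1.conj_mem u hu d⁻¹
        simpa using this
      have h3 := (mem_centralizer_iff.1 (Subgroup.mem_inf.1 hn).2) _ hu'
      calc u * (d * n * d⁻¹) = d * ((d⁻¹ * u * d) * n) * d⁻¹ := by group
        _ = d * (n * (d⁻¹ * u * d)) * d⁻¹ := by rw [h3]
        _ = d * n * d⁻¹ * u := by group
    have h2 : v * d * n * (v * d)⁻¹ = d * n * d⁻¹ := by
      have h4 := (mem_centralizer_iff.1 h1) v hv
      calc v * d * n * (v * d)⁻¹ = (v * (d * n * d⁻¹)) * v⁻¹ := by group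
        _ = ((d * n * d⁻¹) * v) * v⁻¹ := by rw [h4]
        _ = d * n * d⁻¹ := by group
    rw [h2]
    exact Subgroup.mem_inf.2 ⟨(flD x g).mul_mem ((flD x g).mul_mem hd (Subgroup.mem_inf.1 hn).1)
      ((flD x g).inv_mem hd), h1⟩
  have hNx : flInv x N :=
    flInv_inf (flD_inv x g) (flInv_centralizer c.pp.pos c.xp hV.2.1)
  have hN1 : N = ⊥ := by
    by_contra hne
    apply c.not_le hNn hNx hne
    intro f hf
    exact flD_inf_le_flK x g (Subgroup.mem_inf.2
      ⟨(Subgroup.mem_inf.1 (Subgroup.mem_inf.1 hf).1).1, (Subgroup.mem_inf.1 hf).2⟩)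
  intro m hm hcomm
  have : m ∈ N := by
    refine Subgroup.mem_inf.2 ⟨hm, ?_⟩
    rw [mem_centralizer_iff]
    intro v hv
    exact (hcomm v hv).symm
  rw [hN1, mem_bot] at this
  exact this

/-- (N4) -/
theorem fl_n4 (x : MulAut H) (g : H) {w cc : H} (hw : w ∈ flFix x)
    (hcc : cc ∈ flD x g ⊓ flFix x) : w⁻¹ * cc * w ∈ flK x := by
  apply flD_inf_le_flK x (g * w)
  refine Subgroup.mem_inf.2 ⟨flD_mul_fix hw g cc (Subgroup.mem_inf.1 hcc).1, ?_⟩
  exact (flFix x).mul_mem ((flFix x).mul_mem ((flFix x).inv_mem hw) (Subgroup.mem_inf.1 hcc).2) hw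

/-- (N5) `D(g)` has no proper nontrivial invariant normal subgroup. -/
theorem fl_n5 (c : FlCtx H p x) {V : Subgroup H} (hV : flMin x V) (g : H)
    (hg1 : V ⊔ flD x g = ⊤) (hg2 : V ⊓ flD x g = ⊥) (U : Subgroup H) (hUM : U ≤ flD x g)
    (hUx : flInv x U) (hUn : ∀ m ∈ flD x g, ∀ u ∈ U, m * u * m⁻¹ ∈ U) (hne : U ≠ flD x g) :
    U = ⊥ := by
  haveI := c.fin
  have hVab := fl_n_abelian c hV
  have hVn := hV.1
  have hVx := hV.2.1
  set T := flTauSub x p V (flK x) hVab hVx with hT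
  -- `V ⊔ B ≠ ⊤` for every `B ≤ U`
  have hsup : ∀ B : Subgroup H, B ≤ U → V ⊔ B ≠ ⊤ := by
    intro B hBU htop
    apply hne
    apply le_antisymm hUM
    intro m hm
    obtain ⟨v, hv, b, hb, rfl⟩ := fl_n_decomp hVn htop m
    have hbM : b ∈ flD x g := hUM (hBU hb)
    have hvM : v ∈ flD x g := by
      have : v = (v * b) * b⁻¹ := by group
      rw [this]; exact mul_mem hm (inv_mem hbM)
    have hv1 : v = 1 := by
      have : v ∈ V ⊓ flD x g := Subgroup.mem_inf.2 ⟨hv, hvM⟩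
      rwa [hg2, mem_bot] at this
    rw [hv1, one_mul]
    exact hBU hb
  have hkey : ∀ h ∈ closure {d : H | d ∈ U ⊓ flFix x ∨ ∃ b ∈ U, d ∈ flD x b}, ∀ v ∈ V,
      v⁻¹ * h⁻¹ * v * h ∈ T := by
    apply fl_comm_closure V T hVn
    rintro d (hd | ⟨b, hb, hd⟩) v hv
    · -- fixed `d`
      have h1 : d⁻¹ * v * d ∈ V := by
        have := hVn.conj_mem v hv d⁻¹
        simpa using this
      refine ⟨?_, ?_⟩
      · have : v⁻¹ * d⁻¹ * v * d = v⁻¹ * (d⁻¹ * v * d) := by group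
        rw [this]; exact V.mul_mem (V.inv_mem hv) h1
      · have h2 : v⁻¹ * d⁻¹ * v * d = v⁻¹ * (d⁻¹ * v * d) := by group
        rw [h2, flTau_mul hVab hVx (V.inv_mem hv) h1, flTau_inv hVab hVx hv,
          flTau_conj_fix (Subgroup.mem_inf.1 hd).2]
        set w := flTau x p v with hw
        have hwF : w ∈ flFix x := flTau_fix c.xp hVab hVx hv
        have hdU := (Subgroup.mem_inf.1 hd).1
        have hdF := (Subgroup.mem_inf.1 hd).2
        have hd' : d⁻¹ ∈ flD x g ⊓ flFix x :=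
          Subgroup.mem_inf.2 ⟨(flD x g).inv_mem (hUM hdU), (flFix x).inv_mem hdF⟩
        have h3 := fl_n4 x g hwF hd'
        have h4 : d ∈ flK x := flD_inf_le_flK x g (Subgroup.mem_inf.2 ⟨hUM hdU, hdF⟩)
        have h5 : w⁻¹ * (d⁻¹ * w * d) = (w⁻¹ * d⁻¹ * w) * d := by group
        rw [h5]
        exact mul_mem h3 h4
    · have hBU : flD x b ≤ U := by
        rw [flD_le_iff]
        intro i
        exact U.mul_mem (U.inv_mem hb) (flInv_pow hUx i b hb)
      exact fl_n_tau_comm c hV hVab (flD_inv x b) (flC_flD c.pp c.xp c.cop b) (hsup _ hBU) hd hv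
  have hUcl : U ≤ closure {d : H | d ∈ U ⊓ flFix x ∨ ∃ b ∈ U, d ∈ flD x b} := by
    intro u hu
    obtain ⟨cc, hcc, k, hk, rfl⟩ := fl_fix_mul_flC c.pp c.xp c.cop hUx hu
    refine mul_mem (Subgroup.subset_closure (Or.inl hcc)) ?_
    have h1 : flC x U ≤ closure {d : H | d ∈ U ⊓ flFix x ∨ ∃ b ∈ U, d ∈ flD x b} := by
      rw [flC_le_iff]
      intro l hl i
      exact Subgroup.subset_closure (Or.inr ⟨l, hl, flD_gen_mem x l i⟩)
    exact h1 hk
  -- the subgroup `R = [V,U]`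
  set R : Subgroup H := closure {e : H | ∃ v ∈ V, ∃ u ∈ U, e = v⁻¹ * u⁻¹ * v * u} with hR
  have hRT : R ≤ T := by
    rw [hR, closure_le]
    rintro _ ⟨v, hv, u, hu, rfl⟩
    exact hkey u (hUcl hu) v hv
  have hRV : R ≤ V := fun r hr => (hRT hr).1
  have hRx : flInv x R := by
    rw [hR]
    apply flInv_closure
    rintro _ ⟨v, hv, u, hu, rfl⟩
    apply Subgroup.subset_closure
    refine ⟨x v, hVx v hv, x u, hUx u hu, ?_⟩
    simp only [map_mul, map_inv]
  have hRn : R.Normal := by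
    apply fl_n_normal_of hVn hVab hg1 hRV
    intro d hd t ht
    rw [hR] at ht ⊢
    induction ht using closure_induction with
    | mem e he =>
      obtain ⟨v, hv, u, hu, rfl⟩ := he
      apply Subgroup.subset_closure
      refine ⟨d * v * d⁻¹, hVn.conj_mem v hv d, d * u * d⁻¹, hUn d hd u hu, ?_⟩
      group
    | one => simp
    | mul a b _ _ ha hb =>
      have : d * (a * b) * d⁻¹ = (d * a * d⁻¹) * (d * b * d⁻¹) := by group
      rw [this]; exact mul_mem ha hb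
    | inv a _ ha =>
      have : d * a⁻¹ * d⁻¹ = (d * a * d⁻¹)⁻¹ := by group
      rw [this]; exact inv_mem ha
  rcases hV.2.2.2 R hRn hRx hRV with h | h
  · -- `U` centralises `V`
    rw [eq_bot_iff]
    intro u hu
    rw [mem_bot]
    apply fl_n3 c hV g hg1 u (hUM hu)
    intro v hv
    have h1 : v⁻¹ * u⁻¹ * v * u ∈ R := Subgroup.subset_closure ⟨v, hv, u, hu, rfl⟩
    rw [h, mem_bot] at h1
    have h2 : u * v * (v⁻¹ * u⁻¹ * v * u) = v * u := by group
    rw [h1, mul_one] at h2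
    exact h2
  · exact (fl_n_contra c hV hVab ((le_of_eq h.symm).trans hRT)).elim

end Cfsg.Agent.Flav
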