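import Cfsg.Agent.Flav.NonCentralA
import Cfsg.Agent.Helper1.SZ

/-!
# S3816, non-central case, part B: steps (N6), (N7) of `notes/S3816_proof_helper1.md`
-/

set_option autoImplicit false

namespace Cfsg.Agent.Flav

open Subgroup
open scoped commutatorElement

variable {H : Type*} [Group H] {p : ℕ} {x : MulAut H}

/-- (N6) the structure of `M = D(g)`. -/
theorem fl_n6 (c : FlCtx H p x) {V : Subgroup H} (hV : flMin x V) (hnc : ¬ V ≤ center H) (g : H)
    (hg1 : V ⊔ flD x g = ⊤) (hg2 : V ⊓ flD x g = ⊥) :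
    flD x g ≠ ⊥ ∧ (∀ m ∈ flD x g, ∀ n ∈ flD x g, m * n = n * m) ∧
      (∀ B : Subgroup H, B ≤ flD x g → flInv x B → B = ⊥ ∨ B = flD x g) ∧
      flD x g ⊓ flFix x = ⊥ := by
  have hVab := fl_n_abelian c hV
  set M := flD x g with hM
  have hMx : flInv x M := flD_inv x g
  have hM1 : M ≠ ⊥ := by
    intro h0
    apply hnc
    rw [h0, sup_bot_eq] at hg1
    intro u hu
    rw [mem_center_iff]
    intro h
    exact hVab h (hg1 ▸ mem_top h) u hu
  -- abelian
  have hU : ⁅M, M⁆ = ⊥ := by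
    apply fl_n5 c hV g hg1 hg2 ⁅M, M⁆
    · rw [commutator_le]
      intro a ha b hb
      rw [commutatorElement_def]
      exact M.mul_mem (M.mul_mem (M.mul_mem ha hb) (M.inv_mem ha)) (M.inv_mem hb)
    · exact flInv_commutator hMx hMx
    · intro m hm u hu
      have h1 : ⁅M, M⁆ ≤ (⁅M, M⁆).comap (MulAut.conj m).toMonoidHom := by
        rw [commutator_le]
        intro a ha b hb
        rw [mem_comap, map_commutatorElement]
        apply commutator_mem_commutator
        · show m * a * m⁻¹ ∈ M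
          exact M.mul_mem (M.mul_mem hm ha) (M.inv_mem hm)
        · show m * b * m⁻¹ ∈ M
          exact M.mul_mem (M.mul_mem hm hb) (M.inv_mem hm)
      exact h1 hu
    · exact fl_n_comm_ne c.solv hM1
  have hMab : ∀ m ∈ M, ∀ n ∈ M, m * n = n * m := by
    intro m hm n hn
    have h2 : ⁅m, n⁆ ∈ ⁅M, M⁆ := commutator_mem_commutator hm hn
    rw [hU, mem_bot, commutatorElement_eq_one_iff_mul_comm] at h2
    exact h2
  have hMmin : ∀ B : Subgroup H, B ≤ M → flInv x B → B = ⊥ ∨ B = M := by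
    intro B hBM hBx
    by_cases hB : B = M
    · exact Or.inr hB
    · left
      apply fl_n5 c hV g hg1 hg2 B hBM hBx _ hB
      intro m hm u hu
      rw [hMab m hm u (hBM hu), mul_assoc, mul_inv_cancel, mul_one]
      exact hu
  refine ⟨hM1, hMab, hMmin, ?_⟩
  rcases hMmin (M ⊓ flFix x) inf_le_left (flInv_inf hMx (flInv_flFix x)) with h | h
  · exact h
  · exfalso
    apply hM1
    have hMF : M ≤ flFix x := by
      rw [← h]; exact inf_le_right
    haveI := c.fin
    have h1 : flC x M = M := flC_flD c.pp c.xp c.cop g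
    rw [← h1, eq_bot_iff, flC_le_iff]
    intro l hl i
    rw [mem_bot, flFix_pow (hMF hl) i, inv_mul_cancel]

/-- a nontrivial normal subgroup of a finite `q`-group contains a nontrivial central element -/
theorem fl_n_center {Q : Type*} [Group Q] [Finite Q] {q : ℕ} [hq : Fact q.Prime]
    (hQ : IsPGroup q Q) (M : Subgroup Q) [hM : M.Normal] (hMne : M ≠ ⊥) :
    ∃ b ∈ M, b ≠ 1 ∧ ∀ g : Q, g * b = b * g := by
  have hQ' : IsPGroup q (ConjAct Q) := hQ
  have hcard : q ∣ Nat.card M := by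
    obtain ⟨k, hk⟩ := (hQ.to_subgroup M).exists_card_eq
    have hk0 : k ≠ 0 := by
      rintro rfl
      rw [pow_zero] at hk
      exact hMne (Subgroup.card_eq_one.1 hk)
    rw [hk]
    exact dvd_pow_self q hk0
  have h1 : (1 : M) ∈ MulAction.fixedPoints (ConjAct Q) M := by
    intro g
    exact smul_one g
  obtain ⟨b, hb, hne⟩ := hQ'.exists_fixed_point_of_prime_dvd_card_of_fixed_point M hcard h1
  refine ⟨(b : Q), b.2, ?_, ?_⟩
  · intro h
    apply hne
    exact (Subtype.ext h).symm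
  · intro g
    have h2 := hb (ConjAct.toConjAct g)
    have h3 := congrArg Subtype.val h2
    rw [ConjAct.Subgroup.val_conj_smul, ConjAct.smul_def, ConjAct.ofConjAct_toConjAct] at h3
    calc g * b = g * b * g⁻¹ * g := by group
      _ = b * g := by rw [h3]

/-- `V` and `M = D(g)` have coprime orders. -/
theorem fl_n6_coprime (c : FlCtx H p x) {V : Subgroup H} (hV : flMin x V) (hnc : ¬ V ≤ center H)
    (g : H) (hg1 : V ⊔ flD x g = ⊤) (hg2 : V ⊓ flD x g = ⊥) :
    (Nat.card V).Coprime (Nat.card (flD x g)) := by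
  haveI := c.fin
  have hVab := fl_n_abelian c hV
  obtain ⟨hM1, hMab, hMmin, -⟩ := fl_n6 c hV hnc g hg1 hg2
  set M := flD x g with hM
  have hMx : flInv x M := flD_inv x g
  have hVn := hV.1
  by_contra hcop
  obtain ⟨q, hq, hqV, hqM⟩ := Nat.Prime.not_coprime_iff_dvd.1 hcop
  haveI : Fact q.Prime := ⟨hq⟩
  -- `V` has exponent `q`
  let Vq : Subgroup H :=
    { carrier := {v | v ∈ V ∧ v ^ q = 1}
      one_mem' := ⟨V.one_mem, one_pow q⟩
      mul_mem' := by
        rintro a b ⟨ha, ha'⟩ ⟨hb, hb'⟩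
        refine ⟨V.mul_mem ha hb, ?_⟩
        rw [(show Commute a b from hVab a ha b hb).mul_pow, ha', hb', one_mul]
      inv_mem' := by
        rintro a ⟨ha, ha'⟩
        exact ⟨V.inv_mem ha, by rw [inv_pow, ha', inv_one]⟩ }
  have hVqV : Vq ≤ V := fun v hv => hv.1
  have hVqn : Vq.Normal := by
    constructor
    rintro v ⟨hv, hv'⟩ h
    refine ⟨hVn.conj_mem v hv h, ?_⟩
    rw [conj_pow, hv', mul_one, mul_inv_cancel]
  have hVqx : flInv x Vq := by
    rintro v ⟨hv, hv'⟩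
    exact ⟨hV.2.1 v hv, by rw [← map_pow, hv', map_one]⟩
  have hVq1 : Vq ≠ ⊥ := by
    obtain ⟨v, hv⟩ := exists_prime_orderOf_dvd_card' q hqV
    intro h0
    have h1 : (v : H) ∈ Vq := by
      refine ⟨v.2, ?_⟩
      have := pow_orderOf_eq_one v
      rw [hv] at this
      have h2 := congrArg Subtype.val this
      simpa using h2
    rw [h0, mem_bot] at h1
    have h2 : v = 1 := Subtype.ext h1
    rw [h2, orderOf_one] at hv
    exact hq.one_lt.ne hv
  have hVexp : ∀ v ∈ V, v ^ q = 1 := by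
    rcases hV.2.2.2 Vq hVqn hVqx hVqV with h | h
    · exact absurd h hVq1
    · intro v hv
      have : v ∈ Vq := h ▸ hv
      exact this.2
  -- `M` has exponent `q`
  let Mq : Subgroup H :=
    { carrier := {v | v ∈ M ∧ v ^ q = 1}
      one_mem' := ⟨M.one_mem, one_pow q⟩
      mul_mem' := by
        rintro a b ⟨ha, ha'⟩ ⟨hb, hb'⟩
        refine ⟨M.mul_mem ha hb, ?_⟩
        rw [(show Commute a b from hMab a ha b hb).mul_pow, ha', hb', one_mul]
      inv_mem' := by
        rintro a ⟨ha, ha'⟩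
        exact ⟨M.inv_mem ha, by rw [inv_pow, ha', inv_one]⟩ }
  have hMqM : Mq ≤ M := fun v hv => hv.1
  have hMqx : flInv x Mq := by
    rintro v ⟨hv, hv'⟩
    exact ⟨hMx v hv, by rw [← map_pow, hv', map_one]⟩
  have hMq1 : Mq ≠ ⊥ := by
    obtain ⟨v, hv⟩ := exists_prime_orderOf_dvd_card' q hqM
    intro h0
    have h1 : (v : H) ∈ Mq := by
      refine ⟨v.2, ?_⟩
      have := pow_orderOf_eq_one v
      rw [hv] at this
      have h2 := congrArg Subtype.val this
      simpa using h2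
    rw [h0, mem_bot] at h1
    have h2 : v = 1 := Subtype.ext h1
    rw [h2, orderOf_one] at hv
    exact hq.one_lt.ne hv
  have hMexp : ∀ m ∈ M, m ^ q = 1 := by
    rcases hMmin Mq hMqM hMqx with h | h
    · exact absurd h hMq1
    · intro v hv
      have : v ∈ Mq := h ▸ hv
      exact this.2
  -- `H` is a `q`-group
  have hpow : ∀ (v d : H), v ∈ V → ∀ n : ℕ, ∃ v' ∈ V, (v * d) ^ n = v' * d ^ n := by
    intro v d hv n
    induction n with
    | zero => exact ⟨1, V.one_mem, by simp⟩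
    | succ n ih =>
      obtain ⟨v', hv', he⟩ := ih
      refine ⟨v' * (d ^ n * v * (d ^ n)⁻¹), V.mul_mem hv' (hVn.conj_mem v hv _), ?_⟩
      rw [pow_succ, he, pow_succ]; group
  have hHq : IsPGroup q H := by
    intro h
    obtain ⟨v, hv, d, hd, rfl⟩ := fl_n_decomp hVn hg1 h
    refine ⟨2, ?_⟩
    obtain ⟨v', hv', he⟩ := hpow v d hv q
    rw [pow_two, pow_mul, he, hMexp d hd, mul_one, hVexp v' hv']
  haveI := hVn
  obtain ⟨b, hbV, hb1, hbc⟩ := fl_n_center hHq V hV.2.2.1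
  -- `V ∩ Z(H)` is a nontrivial invariant normal subgroup
  have hZn : (V ⊓ center H).Normal := inferInstance
  rcases hV.2.2.2 (V ⊓ center H) hZn (flInv_inf hV.2.1 (flInv_center x)) inf_le_left with h | h
  · have : b ∈ V ⊓ center H := Subgroup.mem_inf.2 ⟨hbV, by
      rw [mem_center_iff]; exact hbc⟩
    rw [h, mem_bot] at this
    exact hb1 this
  · apply hnc
    rw [← h]
    exact inf_le_right

/-- (N7) `V = W · W^a` for every `1 ≠ a ∈ M`. -/
theorem fl_n7 (c : FlCtx H p x) {V : Subgroup H} (hV : flMin x V) (hnc : ¬ V ≤ center H) (g : H)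
    (hg1 : V ⊔ flD x g = ⊤) (hg2 : V ⊓ flD x g = ⊥) (a : H) (ha : a ∈ flD x g) (ha1 : a ≠ 1)
    (v : H) (hv : v ∈ V) :
    ∃ w₁ ∈ V ⊓ flFix x, ∃ w₂ ∈ V ⊓ flFix x, v = w₁ * (a⁻¹ * w₂ * a) := by
  haveI := c.fin
  have hVab := fl_n_abelian c hV
  obtain ⟨hM1, hMab, hMmin, hMfix⟩ := fl_n6 c hV hnc g hg1 hg2
  have hcopVM := fl_n6_coprime c hV hnc g hg1 hg2
  set M := flD x g with hM
  have hMx : flInv x M := flD_inv x g
  have hVn := hV.1
  have hVx := hV.2.1
  haveI := hVn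
  -- `D(a) = M`
  have hDa : flD x a = M := by
    have hle : flD x a ≤ M := by
      rw [flD_le_iff]
      intro i
      exact M.mul_mem (M.inv_mem ha) (flInv_pow hMx i a ha)
    rcases hMmin (flD x a) hle (flD_inv x a) with h | h
    · exfalso
      have h1 := flD_gen_mem x a 1
      rw [h, mem_bot, pow_one] at h1
      have h2 : a ∈ M ⊓ flFix x := Subgroup.mem_inf.2 ⟨ha, by
        rw [mem_flFix]
        calc x a = a * (a⁻¹ * x a) := by group
          _ = a := by rw [h1, mul_one]⟩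
      rw [hMfix, mem_bot] at h2
      exact ha1 h2
    · exact h
  -- the complement `D' = D(a v)`
  set D' := flD x (a * v) with hD'
  have hD'x : flInv x D' := flD_inv x (a * v)
  have hsup : V ⊔ D' = ⊤ := by
    rw [eq_top_iff, ← hg1]
    apply sup_le le_sup_left
    rw [← hDa, flD_le_iff]
    intro i
    have h1 : a⁻¹ * (x ^ i) a = v * ((a * v)⁻¹ * (x ^ i) (a * v)) * ((x ^ i) v)⁻¹ := by
      rw [map_mul]; group
    rw [h1]
    refine mul_mem (mul_mem ((le_sup_left : V ≤ V ⊔ D') hv)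
      ((le_sup_right : D' ≤ V ⊔ D') (flD_gen_mem x (a * v) i)))
      (inv_mem ((le_sup_left : V ≤ V ⊔ D') (flInv_pow hVx i v hv)))
  have hinf : V ⊓ D' = ⊥ := fl_n2 c hV (a * v) hsup
  -- complements
  have hcompl : ∀ D : Subgroup H, V ⊔ D = ⊤ → V ⊓ D = ⊥ → V.IsComplement' D := by
    intro D h1 h2
    apply isComplement'_of_disjoint_and_mul_eq_univ (disjoint_iff.2 h2)
    rw [Set.eq_univ_iff_forall]
    intro h
    obtain ⟨v, hv, d, hd, rfl⟩ := fl_n_decomp hVn h1 h
    exact Set.mul_mem_mul hv hd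
  have hcM := hcompl M hg1 hg2
  have hcD := hcompl D' hsup hinf
  haveI : IsMulCommutative V := ⟨⟨fun a b => Subtype.ext (hVab a a.2 b b.2)⟩⟩
  have hidx : (Nat.card V).Coprime V.index := by
    rw [hcM.symm.index_eq_card]
    exact hcopVM
  obtain ⟨u, huV, hu⟩ := Cfsg.Agent.Helper1.sz_conj_abelian V hidx M D' hcM hcD
  -- membership in `D'`
  have hmemD : ∀ d : H, d ∈ D' ↔ u⁻¹ * d * u ∈ M := by
    intro d
    rw [← hu, mem_pointwise_smul_iff_inv_smul_mem]
    have : (MulAut.conj u)⁻¹ • d = u⁻¹ * d * u := by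
      rw [← map_inv, MulAut.smul_def, MulAut.conj_apply, inv_inv]
    rw [this]
  -- `C_V(M) = 1`
  have hCVM : ∀ z ∈ V, (∀ m ∈ M, z * m = m * z) → z = 1 := by
    set Z := V ⊓ centralizer (M : Set H) with hZ
    have hZn : Z.Normal := by
      apply fl_n_normal_of hVn hVab hg1 inf_le_left
      intro d hd t ht
      refine Subgroup.mem_inf.2 ⟨hVn.conj_mem t (Subgroup.mem_inf.1 ht).1 d, ?_⟩
      rw [mem_centralizer_iff]
      intro m hm
      have h1 := (mem_centralizer_iff.1 (Subgroup.mem_inf.1 ht).2)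
      have h2 := h1 (d⁻¹ * m * d) (M.mul_mem (M.mul_mem (M.inv_mem hd) hm) hd)
      calc m * (d * t * d⁻¹) = d * ((d⁻¹ * m * d) * t) * d⁻¹ := by group
        _ = d * (t * (d⁻¹ * m * d)) * d⁻¹ := by rw [h2]
        _ = d * t * d⁻¹ * m := by group
    have hZx : flInv x Z := flInv_inf hVx (flInv_centralizer c.pp.pos c.xp hMx)
    rcases hV.2.2.2 Z hZn hZx inf_le_left with h | h
    · intro z hz hzc
      have : z ∈ Z := Subgroup.mem_inf.2 ⟨hz, by
        rw [mem_centralizer_iff]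
        intro m hm
        exact (hzc m hm).symm⟩
      rw [h, mem_bot] at this
      exact this
    · exfalso
      -- `M` centralises `V`, so `M = 1`
      apply hM1
      rw [eq_bot_iff]
      intro m hm
      rw [mem_bot]
      apply fl_n3 c hV g hg1 m hm
      intro v' hv'
      have : v' ∈ Z := h ▸ hv'
      exact (mem_centralizer_iff.1 (Subgroup.mem_inf.1 this).2 m hm)
  -- `u` is fixed
  have huF : u ∈ flFix x := by
    set z := u⁻¹ * x u with hz
    have hzV : z ∈ V := V.mul_mem (V.inv_mem huV) (hVx u huV)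
    have hz1 : z = 1 := by
      apply hCVM z hzV
      intro m hm
      -- `z m z⁻¹ ∈ M`
      obtain ⟨m', hm', rfl⟩ := flInv_surj c.pp.pos c.xp hMx hm
      have h1 : u * m' * u⁻¹ ∈ D' := by
        rw [hmemD]
        have : u⁻¹ * (u * m' * u⁻¹) * u = m' := by group
        rw [this]; exact hm'
      have h2 := hD'x _ h1
      rw [hmemD] at h2
      have h3 : u⁻¹ * x (u * m' * u⁻¹) * u = z * x m' * z⁻¹ := by
        rw [hz, map_mul, map_mul, map_inv]; group
      rw [h3] at h2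
      have h4 : z * x m' * z⁻¹ * (x m')⁻¹ ∈ V ⊓ M := by
        refine Subgroup.mem_inf.2 ⟨?_, M.mul_mem h2 (M.inv_mem hm)⟩
        have h5 : x m' * z⁻¹ * (x m')⁻¹ ∈ V := hVn.conj_mem _ (V.inv_mem hzV) _
        have h6 : z * x m' * z⁻¹ * (x m')⁻¹ = z * (x m' * z⁻¹ * (x m')⁻¹) := by group
        rw [h6]; exact V.mul_mem hzV h5
      rw [hg2, mem_bot] at h4
      calc z * x m' = (z * x m' * z⁻¹ * (x m')⁻¹) * (x m' * z) := by group
        _ = x m' * z := by rw [h4, one_mul]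
    rw [mem_flFix]
    calc x u = u * z := by rw [hz]; group
      _ = u := by rw [hz1, mul_one]
  -- the conjugate element `h' = u⁻¹ (a v) u = a v'`
  set v' := a⁻¹ * u⁻¹ * a * v * u with hv'
  have hv'V : v' ∈ V := by
    have h1 : a⁻¹ * u⁻¹ * a ∈ V := by
      have := hVn.conj_mem u⁻¹ (V.inv_mem huV) a⁻¹
      simpa using this
    have h2 : v' = (a⁻¹ * u⁻¹ * a) * v * u := by rw [hv']
    rw [h2]
    exact V.mul_mem (V.mul_mem h1 hv) huV
  have hgen : v'⁻¹ * (a⁻¹ * x a) * x v' ∈ M := by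
    have h1 : (a * v)⁻¹ * (x ^ 1) (a * v) ∈ D' := flD_gen_mem x (a * v) 1
    rw [hmemD, pow_one] at h1
    have h2 : u⁻¹ * ((a * v)⁻¹ * x (a * v)) * u = v'⁻¹ * (a⁻¹ * x a) * x v' := by
      have hxu : x u = u := huF
      rw [hv', map_mul, map_mul, map_mul, map_mul, map_mul, map_inv, map_inv, hxu]
      group
    rwa [h2] at h1
  have hc1 : a⁻¹ * x a ∈ M := M.mul_mem (M.inv_mem ha) (hMx a ha)
  have hxv' : x v' = (a⁻¹ * x a)⁻¹ * v' * (a⁻¹ * x a) := by
    have h1 : (a⁻¹ * x a)⁻¹ * v'⁻¹ * (a⁻¹ * x a) * x v' ∈ V ⊓ M := by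
      refine Subgroup.mem_inf.2 ⟨?_, ?_⟩
      · have h2 : (a⁻¹ * x a)⁻¹ * v'⁻¹ * (a⁻¹ * x a) ∈ V := by
          have := hVn.conj_mem v'⁻¹ (V.inv_mem hv'V) (a⁻¹ * x a)⁻¹
          simpa using this
        exact V.mul_mem h2 (hVx v' hv'V)
      · have h3 : (a⁻¹ * x a)⁻¹ * v'⁻¹ * (a⁻¹ * x a) * x v'
            = (a⁻¹ * x a)⁻¹ * (v'⁻¹ * (a⁻¹ * x a) * x v') := by group
        rw [h3]
        exact M.mul_mem (M.inv_mem hc1) hgen
    rw [hg2, mem_bot] at h1
    calc x v' = ((a⁻¹ * x a)⁻¹ * v' * (a⁻¹ * x a))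
          * ((a⁻¹ * x a)⁻¹ * v'⁻¹ * (a⁻¹ * x a) * x v') := by group
      _ = (a⁻¹ * x a)⁻¹ * v' * (a⁻¹ * x a) := by rw [h1, mul_one]
  -- `w₂ = a v' a⁻¹` is fixed
  set w₂ := a * v' * a⁻¹ with hw₂
  have hw₂V : w₂ ∈ V := hVn.conj_mem v' hv'V a
  have hw₂F : w₂ ∈ flFix x := by
    rw [mem_flFix, hw₂, map_mul, map_mul, map_inv, hxv']
    group
  refine ⟨u⁻¹, Subgroup.mem_inf.2 ⟨V.inv_mem huV, (flFix x).inv_mem huF⟩, u * w₂,
    Subgroup.mem_inf.2 ⟨V.mul_mem huV hw₂V, (flFix x).mul_mem huF hw₂F⟩, ?_⟩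
  -- `v = u⁻¹ * a⁻¹ (u w₂) a`
  have h1 : a⁻¹ * (u * w₂) * a = (a⁻¹ * u * a) * v' := by rw [hw₂]; group
  have h2 : a⁻¹ * u * a ∈ V := by
    have := hVn.conj_mem u huV a⁻¹
    simpa using this
  have h3 : v = (a⁻¹ * u * a) * v' * u⁻¹ := by rw [hv']; group
  rw [h1, h3]
  exact hVab _ (V.mul_mem h2 hv'V) _ (V.inv_mem huV)

end Cfsg.Agent.Flav
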